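import Mathlib
import Cfsg.Agent.Lib.Hall.Basic

/-!
Conjugacy of subgroups of equal order through a normal Hall subgroup.
-/

set_option autoImplicit false
set_option linter.style.haveILetI false

namespace CfsgLib.AbConjAll

variable {G : Type*} [Group G]

/-- Any two subgroups of `D` of equal order are conjugate in `D`. -/
def SameIn (D : Subgroup G) : Prop :=
  ∀ A B : Subgroup G, A ≤ D → B ≤ D → Nat.card A = Nat.card B →
    ∃ g ∈ D, B = A.map (MulAut.conj g).toMonoidHom

/-- Any two subgroups of equal order are conjugate. -/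
def SameConj (G : Type*) [Group G] : Prop :=
  ∀ A B : Subgroup G, Nat.card A = Nat.card B → ∃ g : G, B = A.map (MulAut.conj g).toMonoidHom

theorem sameIn_of_sameConj (D : Subgroup G) (h : SameConj ↥D) : SameIn D := by
  intro A B hA hB hc
  obtain ⟨g, hg⟩ := h (A.subgroupOf D) (B.subgroupOf D) (by
    rw [Nat.card_congr (Subgroup.subgroupOfEquivOfLe hA).toEquiv,
      Nat.card_congr (Subgroup.subgroupOfEquivOfLe hB).toEquiv, hc])
  refine ⟨g, g.2, ?_⟩
  have h2 := congrArg (Subgroup.map D.subtype) hg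
  rw [Subgroup.subgroupOf_map_subtype, inf_eq_left.mpr hB, Subgroup.map_map] at h2
  rw [h2]
  conv_rhs => rw [← inf_eq_left.mpr hA, ← Subgroup.subgroupOf_map_subtype, Subgroup.map_map]
  rfl

theorem conj_conj (A : Subgroup G) (a b : G) :
    (A.map (MulAut.conj a).toMonoidHom).map (MulAut.conj b).toMonoidHom =
      A.map (MulAut.conj (b * a)).toMonoidHom := by
  rw [Subgroup.map_map]
  congr 1
  ext z
  simp

variable [Finite G]

omit [Finite G] in
theorem card_inf_mul {M A : Subgroup G} [M.Normal] :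
    Nat.card ↥(A ⊓ M) * M.relIndex A = Nat.card A := by
  have h := (M.subgroupOf A).card_mul_index
  rw [← Subgroup.card_subtype A, Subgroup.subgroupOf_map_subtype, inf_comm] at h
  exact h

theorem card_inf_eq_gcd {M A : Subgroup G} [M.Normal] (hco : (Nat.card M).Coprime M.index) :
    Nat.card ↥(A ⊓ M) = Nat.gcd (Nat.card A) (Nat.card M) := by
  have h1 : (M.relIndex A).Coprime (Nat.card M) :=
    (hco.coprime_dvd_right (Subgroup.relIndex_dvd_index_of_normal _ _)).symm
  rw [← card_inf_mul (M := M) (A := A), Nat.Coprime.gcd_mul_right_cancel _ h1,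
    Nat.gcd_eq_left (Subgroup.card_dvd_of_le inf_le_right)]

omit [Finite G] in
theorem card_map_mk {M A : Subgroup G} [M.Normal] :
    Nat.card ↥(A.map (QuotientGroup.mk' M)) = M.relIndex A := by
  have h := Subgroup.index_ker ((QuotientGroup.mk' M).domRestrict A)
  rw [MonoidHom.ker_domRestrict, QuotientGroup.ker_mk', MonoidHom.domRestrict_range] at h
  exact h.symm

/-- The Schur–Zassenhaus step. -/
theorem conj_of_sup_eq (M : Subgroup G) [M.Normal] (hMs : Group.IsSolvable ↥M)
    (hco : (Nat.card M).Coprime M.index) {A B : Subgroup G} (hU : (A ⊓ M).Normal)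
    (hAB : A ⊓ M = B ⊓ M) (hsup : A ⊔ M = B ⊔ M) (hcard : Nat.card A = Nat.card B) :
    ∃ x : G, B = A.map (MulAut.conj x).toMonoidHom := by
  set U := A ⊓ M
  have key : ∀ X : Subgroup G, X ⊓ M = U → ∃ X₁ : Subgroup G, X₁ ≤ X ∧ X ≤ U ⊔ X₁ ∧
      Nat.card X₁ = M.relIndex X := by
    intro X hX
    have hUX : U ≤ X := hX ▸ inf_le_left
    have hc : Nat.card ↥(U.subgroupOf X) = Nat.card U :=
      Nat.card_congr (Subgroup.subgroupOfEquivOfLe hUX).toEquiv
    have hi : (U.subgroupOf X).index = M.relIndex X := by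
      refine Nat.eq_of_mul_eq_mul_left (Nat.card_pos (α := U)) ?_
      conv_lhs => rw [← hc, Subgroup.card_mul_index]
      conv_rhs => rw [← hX, card_inf_mul]
    obtain ⟨C, hC⟩ := Subgroup.exists_right_complement'_of_coprime (N := U.subgroupOf X) (by
      rw [hc, hi]
      exact (hco.coprime_dvd_left (Subgroup.card_dvd_of_le inf_le_right)).coprime_dvd_right
        (Subgroup.relIndex_dvd_index_of_normal _ _))
    refine ⟨C.map X.subtype, Subgroup.map_subtype_le C, fun z hz => ?_, ?_⟩
    · obtain ⟨⟨u, c⟩, huc, -⟩ := hC.existsUnique (⟨z, hz⟩ : X)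
      have h2 : (u.1 : G) * (c.1 : G) = z := congrArg Subtype.val huc
      rw [← h2]
      exact Subgroup.mul_mem_sup u.2 ⟨c.1, c.2, rfl⟩
    · rw [Subgroup.card_subtype, ← hi]
      exact hC.symm.index_eq_card.symm
  obtain ⟨A₁, hA₁, hA₁', hA₁c⟩ := key A rfl
  obtain ⟨B₁, hB₁, hB₁', hB₁c⟩ := key B hAB.symm
  have hr : M.relIndex A = M.relIndex B := by
    refine Nat.eq_of_mul_eq_mul_left (Nat.card_pos (α := U)) ?_
    conv_rhs => rw [hAB]
    rw [card_inf_mul, card_inf_mul, hcard]
  have hle : B₁ ≤ M ⊔ A₁ := by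
    calc B₁ ≤ B ⊔ M := hB₁.trans le_sup_left
      _ = A ⊔ M := hsup.symm
      _ ≤ M ⊔ A₁ := sup_le (hA₁'.trans (sup_le_sup_right inf_le_right _)) le_sup_left
  have hcA : (Nat.card M).Coprime (Nat.card A₁) := by
    rw [hA₁c]; exact hco.coprime_dvd_right (Subgroup.relIndex_dvd_index_of_normal _ _)
  obtain ⟨x, -, hx⟩ := CfsgLib.Hall.exists_conj_le_of_complement hMs hcA
    (by rw [hB₁c, ← hr, ← hA₁c]; exact hcA) hle
  refine ⟨x, Subgroup.eq_of_le_of_card_ge ?_
    (by rw [Subgroup.card_map_of_injective (MulAut.conj x).injective, hcard])⟩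
  refine hB₁'.trans (sup_le ?_ (hx.trans (Subgroup.map_mono hA₁)))
  intro u hu
  refine ⟨x⁻¹ * u * x, (?_ : x⁻¹ * u * x ∈ U).1, by simp; group⟩
  simpa using hU.conj_mem u hu x⁻¹

/-- Reduction of the conjugacy of subgroups to a normal Hall subgroup and the quotient. -/
theorem reduce (M : Subgroup G) [M.Normal] (hMs : Group.IsSolvable ↥M)
    (hco : (Nat.card M).Coprime M.index)
    (h1 : ∀ U V : Subgroup G, U ≤ M → V ≤ M → Nat.card U = Nat.card V →
      ∃ g : G, V = U.map (MulAut.conj g).toMonoidHom)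
    (h2 : ∀ U : Subgroup G, U ≤ M →
      SameIn ((Subgroup.normalizer (U : Set G)).map (QuotientGroup.mk' M))) : SameConj G := by
  intro A B hcard
  obtain ⟨g₁, hg₁⟩ := h1 (A ⊓ M) (B ⊓ M) inf_le_right inf_le_right
    (by rw [card_inf_eq_gcd hco, card_inf_eq_gcd hco, hcard])
  set A' := A.map (MulAut.conj g₁).toMonoidHom with hA'
  have hA'card : Nat.card A' = Nat.card B := by
    rw [hA', Subgroup.card_map_of_injective (MulAut.conj g₁).injective, hcard]
  have hinf : ∀ (X : Subgroup G) (g : G), X.map (MulAut.conj g).toMonoidHom ⊓ M =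
      (X ⊓ M).map (MulAut.conj g).toMonoidHom := fun X g => by
    rw [Subgroup.map_inf X M _ (MulAut.conj g).injective]
    congr 1
    exact (Subgroup.Normal.map_conj_eq (H := M) g).symm
  set U := B ⊓ M
  have hUA : A' ⊓ M = U := by rw [hA', hinf, ← hg₁]
  set L := Subgroup.normalizer (U : Set G)
  have hnorm : ∀ X : Subgroup G, X ⊓ M = U → X ≤ L := fun X hX a ha => by
    refine Subgroup.mem_normalizer_fintype fun n hn => ?_
    have h : a * n * a⁻¹ ∈ X ⊓ M :=
      have hn' : n ∈ X ⊓ M := hX ▸ hn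
      Subgroup.mem_inf.mpr ⟨X.mul_mem (X.mul_mem ha hn'.1) (X.inv_mem ha),
        (inferInstance : M.Normal).conj_mem n hn'.2 a⟩
    exact hX ▸ h
  have hA'L := hnorm A' hUA
  have hBL := hnorm B rfl
  obtain ⟨gb, hgb, hgeq⟩ := h2 U inf_le_right (A'.map (QuotientGroup.mk' M))
    (B.map (QuotientGroup.mk' M)) (Subgroup.map_mono hA'L) (Subgroup.map_mono hBL) (by
      rw [card_map_mk, card_map_mk]
      refine Nat.eq_of_mul_eq_mul_left (Nat.card_pos (α := U)) ?_
      conv_lhs => rw [← hUA, card_inf_mul]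
      rw [card_inf_mul, hA'card])
  obtain ⟨g, hgL, rfl⟩ := hgb
  set A'' := A'.map (MulAut.conj g).toMonoidHom with hA''
  have hUA2 : A'' ⊓ M = U := by
    rw [hA'', hinf, hUA]
    refine Subgroup.eq_of_le_of_card_ge ?_
      (by rw [Subgroup.card_map_of_injective (MulAut.conj g).injective])
    rintro _ ⟨u, hu, rfl⟩
    exact (Subgroup.mem_normalizer_iff.mp hgL u).mp hu
  have hsup : A'' ⊔ M = B ⊔ M := by
    have h : A''.map (QuotientGroup.mk' M) = B.map (QuotientGroup.mk' M) := by
      rw [hgeq, hA'', Subgroup.map_map A', Subgroup.map_map A']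
      congr 1
    rwa [Subgroup.map_eq_map_iff, QuotientGroup.ker_mk'] at h
  have hA''L := hnorm A'' hUA2
  have hs : ∀ {X : Subgroup G}, X ≤ L → Nat.card ↥(X.subgroupOf L) = Nat.card X := fun h =>
    Nat.card_congr (Subgroup.subgroupOfEquivOfLe h).toEquiv
  have hsupL : ∀ X Y : Subgroup G, X ≤ L → Y ≤ L → X ⊔ M = Y ⊔ M →
      X.subgroupOf L ≤ Y.subgroupOf L ⊔ M.subgroupOf L := fun X Y hX hY hXY z hz => by
    have h : (z : G) ∈ Y ⊔ M := hXY ▸ Subgroup.mem_sup_left hz
    obtain ⟨y, hy, m, hm, hym⟩ := Subgroup.mem_sup_of_normal_right.mp h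
    have hmL : m ∈ L := by
      rw [← eq_inv_mul_iff_mul_eq] at hym
      exact hym ▸ mul_mem (inv_mem (hY hy)) z.2
    have e : z = ⟨y, hY hy⟩ * ⟨m, hmL⟩ := Subtype.ext hym.symm
    rw [e]
    exact Subgroup.mul_mem_sup hy hm
  have hinfL : ∀ X : Subgroup G, X ⊓ M = U → X.subgroupOf L ⊓ M.subgroupOf L = U.subgroupOf L :=
    fun X hX => by
      ext z
      simp only [Subgroup.mem_inf, Subgroup.mem_subgroupOf]
      exact ⟨fun h => hX ▸ Subgroup.mem_inf.mpr h, fun h => Subgroup.mem_inf.mp (hX.symm ▸ h)⟩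
  haveI := hMs
  obtain ⟨x, hx⟩ := conj_of_sup_eq (G := ↥L) (M.subgroupOf L)
    (Group.isSolvable_of_isSolvable_injective
      (f := (L.subtype.comp (M.subgroupOf L).subtype).codRestrict M fun z => z.2)
      (fun a b h => Subtype.ext (Subtype.ext (congrArg Subtype.val h :))))
    ((hco.coprime_dvd_left (by
        rw [← Subgroup.card_subtype L, Subgroup.subgroupOf_map_subtype]
        exact Subgroup.card_dvd_of_le inf_le_left)).coprime_dvd_right
      (Subgroup.relIndex_dvd_index_of_normal _ _))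
    (A := A''.subgroupOf L) (B := B.subgroupOf L)
    (by rw [hinfL A'' hUA2]; exact Subgroup.normal_in_normalizer)
    (by rw [hinfL A'' hUA2, hinfL B rfl])
    (le_antisymm (sup_le (hsupL _ _ hA''L hBL hsup) le_sup_right)
      (sup_le (hsupL _ _ hBL hA''L hsup.symm) le_sup_right))
    (by rw [hs hA''L, hs hBL, hA'', Subgroup.card_map_of_injective (MulAut.conj g).injective, hA'card])
  refine ⟨(x : G) * g * g₁, ?_⟩
  rw [mul_assoc, ← conj_conj, ← conj_conj, ← hA', ← hA'']
  have h2 := congrArg (Subgroup.map L.subtype) hx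
  rw [Subgroup.subgroupOf_map_subtype, inf_eq_left.mpr hBL, Subgroup.map_map] at h2
  rw [h2]
  conv_rhs => rw [← inf_eq_left.mpr hA''L, ← Subgroup.subgroupOf_map_subtype, Subgroup.map_map]
  rfl

omit [Finite G] in
theorem eq_of_card_eq [IsCyclic G] [Finite G] {A B : Subgroup G} (h : Nat.card A = Nat.card B) :
    A = B := by
  classical
  haveI := Fintype.ofFinite G
  have key : ∀ X : Subgroup G, (X : Set G).toFinset =
      (Finset.univ.filter fun a : G => a ^ Nat.card X = 1) := fun X => by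
    refine Finset.eq_of_subset_of_card_le (fun a ha => ?_) ?_
    · simp only [Set.mem_toFinset, SetLike.mem_coe] at ha
      simp only [Finset.mem_filter, Finset.mem_univ, true_and]
      exact congrArg Subtype.val (pow_card_eq_one' (x := (⟨a, ha⟩ : X)))
    · rw [Set.toFinset_card, ← Nat.card_eq_fintype_card]
      exact IsCyclic.card_pow_eq_one_le Nat.card_pos
  apply SetLike.coe_injective
  have h1 := key A
  rw [h, ← key B] at h1
  exact Set.toFinset_inj.mp h1

/-- A group all of whose Sylow subgroups are cyclic has conjugate subgroups of equal order. -/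
theorem sameConj_zgroup [IsZGroup G] : SameConj G := by
  haveI := IsZGroup.isCyclic_commutator (G := G)
  haveI : IsCyclic (G ⧸ commutator G) := IsZGroup.isCyclic_abelianization
  refine reduce (commutator G) inferInstance (IsZGroup.coprime_commutator_index G) ?_ ?_
  · intro U V hU hV h
    refine ⟨1, ?_⟩
    have e := eq_of_card_eq (G := ↥(commutator G)) (A := U.subgroupOf _) (B := V.subgroupOf _)
      (by rw [Nat.card_congr (Subgroup.subgroupOfEquivOfLe hU).toEquiv,
        Nat.card_congr (Subgroup.subgroupOfEquivOfLe hV).toEquiv, h])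
    rw [Subgroup.subgroupOf_inj, inf_eq_left.mpr hU, inf_eq_left.mpr hV] at e
    rw [e]
    ext z
    simp
  · intro U _ A B _ _ h
    refine ⟨1, one_mem _, ?_⟩
    rw [eq_of_card_eq h]
    ext z
    simp

theorem sameIn_zgroup (D : Subgroup G) [IsZGroup ↥D] : SameIn D :=
  sameIn_of_sameConj D sameConj_zgroup

end CfsgLib.AbConjAll
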