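import Mathlib
import Cfsg.Agent.S0043
import Cfsg.Agent.S3909
import Cfsg.Agent.S3912
import Cfsg.Agent.Lib.Hall.Basic

/-!
Finite solvable groups with conjugate abelian subgroups of equal order: for each prime `r`, either
commuting elements of order `r` generate the same subgroup, or the Sylow `r`-subgroup is normal
and elementary abelian.
-/

set_option autoImplicit false
set_option linter.style.haveILetI false

universe u

namespace CfsgLib.AbConjAll

open Cfsg.Agent.S3912 (AbConj mem_of_same_order)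

/-- Commuting elements of order dividing `r` lie in one cyclic group. -/
def RankOne (G : Type*) [Group G] (r : ℕ) : Prop :=
  ∀ x y : G, x ^ r = 1 → y ^ r = 1 → x ≠ 1 → Commute x y → y ∈ Subgroup.zpowers x

section Norm

variable {M : Type*} [CommGroup M]

theorem norm_eq_one {a : MulAut M} {r : ℕ} (ha : a ^ r = 1) (hf : ∀ v, a v = v → v = 1) (v : M) :
    ∏ i ∈ Finset.range r, (a ^ i) v = 1 := by
  apply hf
  rw [map_prod]
  have h1 : ∀ i : ℕ, a ((a ^ i) v) = (a ^ (i + 1)) v := fun i => by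
    rw [pow_succ', MulAut.mul_apply]
  simp only [h1]
  have h2 := Finset.prod_range_succ' (fun i => (a ^ i) v) r
  have h3 := Finset.prod_range_succ (fun i => (a ^ i) v) r
  simp only [pow_zero, ha] at h2 h3
  rw [h3] at h2
  exact (mul_right_cancel h2).symm

/-- Fixed point free elementary group of rank two kills everything. -/
theorem pow_eq_one_of_fpf {A : Type*} [Group A] (φ : A →* MulAut M) {r : ℕ} [hr : Fact r.Prime]
    {x y : A} (hxy : Commute x y) (hx : x ^ r = 1) (hy : y ^ r = 1)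
    (hf : ∀ i j : ℕ, ¬(r ∣ i ∧ r ∣ j) → ∀ v, φ (x ^ i * y ^ j) v = v → v = 1) (v : M) :
    v ^ r = 1 := by
  have hr1 : ¬ r ∣ 1 := hr.out.not_dvd_one
  have hyn := norm_eq_one (a := φ y) (r := r) (by rw [← map_pow, hy, map_one])
    (fun w hw => hf 0 1 (fun h => hr1 h.2) w (by rwa [pow_zero, one_mul, pow_one])) v
  have hrow : ∀ i : ℕ, ∏ j ∈ Finset.range r, (φ (x * y ^ i) ^ j) v = 1 := fun i =>
    norm_eq_one (by rw [← map_pow, (hxy.pow_right i).mul_pow, hx, ← pow_mul, mul_comm, pow_mul, hy,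
        one_pow, mul_one, map_one])
      (fun w hw => hf 1 i (fun h => hr1 h.1) w (by rwa [pow_one])) v
  have hcol : ∀ j ∈ Finset.range r, ∏ i ∈ Finset.range r, (φ (x * y ^ i) ^ j) v =
      if j = 0 then v ^ r else 1 := by
    intro j hj
    split_ifs with h0
    · subst h0
      simp
    have hjr : ¬ r ∣ j := fun h => by
      have := Nat.le_of_dvd (Nat.pos_of_ne_zero h0) h
      rw [Finset.mem_range] at hj
      omega
    have h1 : ∀ i, (φ (x * y ^ i) ^ j) v = φ (x ^ j) ((φ (y ^ j) ^ i) v) := fun i => by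
      rw [← map_pow, ← map_pow, (hxy.pow_right i).mul_pow, map_mul, MulAut.mul_apply, ← pow_mul,
        ← pow_mul, mul_comm i j]
    simp only [h1]
    rw [← map_prod, norm_eq_one (by rw [← map_pow, ← pow_mul, mul_comm, pow_mul, hy, one_pow, map_one])
      (fun w hw => hf 0 j (fun h => hjr h.2) w (by rwa [pow_zero, one_mul])) v, map_one]
  have hswap := Finset.prod_comm (s := Finset.range r) (t := Finset.range r)
    (f := fun i j => (φ (x * y ^ i) ^ j) v)
  rw [Finset.prod_congr rfl (fun i _ => hrow i), Finset.prod_congr rfl hcol, Finset.prod_const_one,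
    Finset.prod_ite_eq' (Finset.range r) 0 (fun _ => v ^ r),
    if_pos (Finset.mem_range.mpr hr.out.pos)] at hswap
  exact hswap.symm

end Norm

variable {G : Type u} [Group G] [Finite G]

omit [Finite G] in
theorem orderOf_eq_of_pow {r : ℕ} [Fact r.Prime] {x : G} (hx : x ^ r = 1) (hx1 : x ≠ 1) :
    orderOf x = r :=
  orderOf_eq_prime hx hx1

omit [Finite G] in
theorem eq_one_of_pow_coprime {a b : ℕ} (hab : a.Coprime b) {x : G} (ha : x ^ a = 1)
    (hb : x ^ b = 1) : x = 1 := by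
  have h := pow_gcd_eq_one.mpr ⟨ha, hb⟩
  rwa [hab, pow_one] at h

theorem exists_minimal_normal {M : Subgroup G} (hMn : M.Normal) (hM : M ≠ ⊥) :
    ∃ N : Subgroup G, N.Normal ∧ N ≤ M ∧ N ≠ ⊥ ∧
      ∀ K : Subgroup G, K.Normal → K ≤ N → K = ⊥ ∨ K = N := by
  obtain ⟨N, hN, hmin⟩ := (Set.toFinite {N : Subgroup G | N.Normal ∧ N ≤ M ∧ N ≠ ⊥}).exists_minimal
    ⟨M, hMn, le_rfl, hM⟩
  exact ⟨N, hN.1, hN.2.1, hN.2.2, fun K h1 h2 => or_iff_not_imp_left.mpr fun h3 =>
    le_antisymm h2 (hmin ⟨h1, h2.trans hN.2.1, h3⟩ h2)⟩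

/-- A coprime minimal normal subgroup centralises an elementary abelian group of rank at least
two which it normalises modulo itself. -/
theorem centralize (hB : AbConj G) (N C : Subgroup G) [hNn : N.Normal] (hN0 : N ≠ ⊥)
    (hmin : ∀ K : Subgroup G, K.Normal → K ≤ N → K = ⊥ ∨ K = N)
    (hNc : IsMulCommutative ↥N) {p : ℕ} (hexp : ∀ x ∈ N, x ^ p = 1) (hp : p.Prime)
    {r : ℕ} [hr : Fact r.Prime] (hpr : p ≠ r) (hCc : IsMulCommutative ↥C)
    (hCexp : ∀ x ∈ C, x ^ r = 1) {x y : G} (hx : x ∈ C) (hy : y ∈ C) (hx1 : x ≠ 1)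
    (hyx : y ∉ Subgroup.zpowers x)
    (hfr : ∀ g : G, ∃ n ∈ N, n⁻¹ * g ∈ Subgroup.normalizer (C : Set G)) :
    ∀ c ∈ C, ∀ n ∈ N, Commute c n := by
  classical
  have hNcomm : ∀ a ∈ N, ∀ b ∈ N, a * b = b * a := fun a ha b hb =>
    congrArg Subtype.val (hNc.is_comm.comm (⟨a, ha⟩ : N) ⟨b, hb⟩)
  have hCcomm : ∀ a ∈ C, ∀ b ∈ C, Commute a b := fun a ha b hb =>
    congrArg Subtype.val (hCc.is_comm.comm (⟨a, ha⟩ : C) ⟨b, hb⟩)
  set K : Subgroup G := N ⊓ Subgroup.centralizer (C : Set G) with hK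
  have hKn : K.Normal := by
    refine ⟨fun k hk g => ⟨hNn.conj_mem k hk.1 g, ?_⟩⟩
    obtain ⟨n, hn, ha⟩ := hfr g
    set a := n⁻¹ * g
    have hk' : a * k * a⁻¹ ∈ N := hNn.conj_mem k hk.1 a
    have e : g * k * g⁻¹ = a * k * a⁻¹ := by
      calc g * k * g⁻¹ = n * (a * k * a⁻¹) * n⁻¹ := by simp only [a]; group
        _ = a * k * a⁻¹ := by rw [hNcomm n hn _ hk', mul_inv_cancel_right]
    rw [e]
    refine Subgroup.mem_centralizer_iff.mpr fun c hc => ?_
    have hc' : a⁻¹ * c * a ∈ C := (Subgroup.mem_normalizer_iff''.mp ha c).mp hc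
    have h := Subgroup.mem_centralizer_iff.mp hk.2 _ hc'
    calc c * (a * k * a⁻¹) = a * ((a⁻¹ * c * a) * k) * a⁻¹ := by group
      _ = a * (k * (a⁻¹ * c * a)) * a⁻¹ := by rw [h]
      _ = a * k * a⁻¹ * c := by group
  rcases hmin K hKn inf_le_left with hbot | htop
  swap
  · intro c hc n hn
    exact Subgroup.mem_centralizer_iff.mp ((htop ▸ hn : n ∈ K).2) c hc
  exfalso
  haveI hNc' : IsMulCommutative ↥N := hNc
  letI : CommGroup ↥N := { (inferInstance : Group ↥N) with mul_comm := hNc.is_comm.comm }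
  -- some element of `C` fixes a point
  obtain ⟨c₀, v₀, hc₀, hc₀1, hv₀, hv₀1, hcv⟩ :
      ∃ c v, c ∈ C ∧ c ≠ 1 ∧ v ∈ N ∧ v ≠ 1 ∧ Commute c v := by
    by_contra hno
    push Not at hno
    apply hN0
    rw [eq_bot_iff]
    intro v hv
    have hw := pow_eq_one_of_fpf (M := ↥N) (A := G) (MulAut.conjNormal (H := N))
      (r := r) (x := x) (y := y) (hCcomm x hx y hy) (hCexp x hx) (hCexp y hy) (fun i j hij w hw => by
        by_contra hw1
        have hc : x ^ i * y ^ j ∈ C := mul_mem (pow_mem hx i) (pow_mem hy j)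
        have hc1 : x ^ i * y ^ j ≠ 1 := by
          intro h1
          apply hij
          have h2 : y ^ j ∈ Subgroup.zpowers x := by
            rw [eq_inv_of_mul_eq_one_right h1]
            exact inv_mem (pow_mem (Subgroup.mem_zpowers x) i)
          have hy1 : y ≠ 1 := fun h => hyx (h ▸ one_mem _)
          have hoy := orderOf_eq_of_pow (hCexp y hy) hy1
          have hj : r ∣ j := by
            by_contra hj
            apply hyx
            have h3 : y ∈ Subgroup.zpowers (y ^ j) := by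
              rw [mem_zpowers_pow_iff, hoy]
              exact Nat.coprime_comm.mp (hr.out.coprime_iff_not_dvd.mpr hj)
            exact Subgroup.zpowers_le.mpr h2 h3
          refine ⟨?_, hj⟩
          rw [(by rw [← hoy] at hj; exact orderOf_dvd_iff_pow_eq_one.mp hj : y ^ j = 1), mul_one] at h1
          rw [← orderOf_eq_of_pow (hCexp x hx) hx1]
          exact orderOf_dvd_of_pow_eq_one h1
        refine hno _ _ hc hc1 w.2 (fun h => hw1 (Subtype.ext h)) ?_
        have := congrArg Subtype.val hw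
        rw [MulAut.conjNormal_apply] at this
        exact mul_inv_eq_iff_eq_mul.mp this) ⟨v, hv⟩
    have h1 : v ^ r = 1 := congrArg Subtype.val hw
    exact Subgroup.mem_bot.mpr (eq_one_of_pow_coprime
      ((Nat.coprime_primes hp hr.out).mpr hpr) (hexp v hv) h1)
  -- centralisers in `C` of points
  let H : G → Subgroup G := fun w => C ⊓ Subgroup.centralizer {w}
  have hmemH : ∀ w c, c ∈ H w ↔ c ∈ C ∧ Commute c w := fun w c => by
    simp [H, Subgroup.mem_inf, Subgroup.mem_centralizer_singleton_iff, commute_iff_eq, eq_comm]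
  have hle : ∀ v ∈ N, v ≠ 1 → ∀ w ∈ N, w ≠ 1 → Nat.card ↥(H v) ≤ Nat.card ↥(H w) := by
    intro v hv hv1 w hw hw1
    haveI := Fact.mk hp
    have hov := orderOf_eq_prime (hexp v hv) hv1
    have how := orderOf_eq_prime (hexp w hw) hw1
    obtain ⟨g, hg⟩ := hB (Subgroup.zpowers v) (Subgroup.zpowers w)
      (Cfsg.Agent.S3912.zpowers_comm v) (Cfsg.Agent.S3912.zpowers_comm w)
      (by rw [Nat.card_zpowers, Nat.card_zpowers, hov, how])
    rw [MonoidHom.map_zpowers] at hg
    obtain ⟨n, hn, ha⟩ := hfr g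
    set a := n⁻¹ * g
    have hav : a * v * a⁻¹ ∈ N := hNn.conj_mem v hv a
    have e : (MulAut.conj g).toMonoidHom v = a * v * a⁻¹ := by
      calc (MulAut.conj g).toMonoidHom v = g * v * g⁻¹ := rfl
        _ = n * (a * v * a⁻¹) * n⁻¹ := by simp only [a]; group
        _ = a * v * a⁻¹ := by rw [hNcomm n hn _ hav, mul_inv_cancel_right]
    rw [e] at hg
    refine Nat.card_le_card_of_injective (fun c : H v => (⟨a * c.1 * a⁻¹, (hmemH w _).mpr ⟨?_, ?_⟩⟩ : H w))
      (fun c d h => Subtype.ext (by simpa using congrArg Subtype.val h))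
    · exact (Subgroup.mem_normalizer_iff.mp ha c.1).mp ((hmemH v _).mp c.2).1
    · have hc : Commute (a * c.1 * a⁻¹) (a * v * a⁻¹) := by
        simpa using ((hmemH v _).mp c.2).2.map (MulAut.conj a)
      obtain ⟨k, hk⟩ := (hg ▸ Subgroup.mem_zpowers w : w ∈ Subgroup.zpowers (a * v * a⁻¹))
      rw [← hk]
      exact hc.zpow_right k
  have hcard : ∀ v ∈ N, v ≠ 1 → ∀ w ∈ N, w ≠ 1 → Nat.card ↥(H v) = Nat.card ↥(H w) :=
    fun v hv hv1 w hw hw1 => le_antisymm (hle v hv hv1 w hw hw1) (hle w hw hw1 v hv hv1)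
  have hsame : ∀ v₁ ∈ N, v₁ ≠ 1 → ∀ v₂ ∈ N, v₂ ≠ 1 → H v₁ = H v₂ := by
    intro v₁ h1 h11 v₂ h2 h21
    by_contra hne
    have hw1 : v₁ * v₂ ≠ 1 := fun h => hne (by
      ext c
      rw [hmemH, hmemH, eq_inv_of_mul_eq_one_left h]
      exact and_congr_right fun _ => Commute.inv_right_iff)
    have key : ∀ h ∈ H (v₁ * v₂), Commute h v₁ := by
      intro h hh
      obtain ⟨hhC, hhw⟩ := (hmemH _ _).mp hh
      by_contra hnc
      set z := h * v₁ * h⁻¹ * v₁⁻¹
      have hz1 : z ≠ 1 := fun hz => hnc (by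
        have : h * v₁ * h⁻¹ = v₁ := mul_inv_eq_one.mp hz
        exact mul_inv_eq_iff_eq_mul.mp this)
      have hzN : z ∈ N := mul_mem (hNn.conj_mem v₁ h1 h) (inv_mem h1)
      have hz' : z = v₂ * (h * v₂⁻¹ * h⁻¹) := by
        have e1 : h * v₁ * h⁻¹ = (v₁ * v₂) * (h * v₂⁻¹ * h⁻¹) := by
          have h3 : h * (v₁ * v₂) * h⁻¹ = v₁ * v₂ := by rw [hhw.eq, mul_inv_cancel_right]
          calc h * v₁ * h⁻¹ = (h * (v₁ * v₂) * h⁻¹) * (h * v₂⁻¹ * h⁻¹) := by group
            _ = (v₁ * v₂) * (h * v₂⁻¹ * h⁻¹) := by rw [h3]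
        simp only [z]
        rw [e1]
        have hN2 : v₂ * (h * v₂⁻¹ * h⁻¹) ∈ N := mul_mem h2 (hNn.conj_mem _ (inv_mem h2) h)
        rw [mul_assoc v₁, hNcomm v₁ h1 _ hN2, mul_inv_cancel_right]
      have hsub : ∀ c, c ∈ C → Commute c v₁ → Commute c z := fun c hc hcv => by
        have hch := hCcomm c hc h hhC
        exact ((hch.mul_right hcv).mul_right hch.inv_right).mul_right hcv.inv_right
      have hsub2 : ∀ c, c ∈ C → Commute c v₂ → Commute c z := fun c hc hcv => by
        have hch := hCcomm c hc h hhC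
        rw [hz']
        exact hcv.mul_right ((hch.mul_right hcv.inv_right).mul_right hch.inv_right)
      have e1 : H v₁ = H z := Subgroup.eq_of_le_of_card_ge
        (fun c hc => (hmemH _ _).mpr ⟨((hmemH _ _).mp hc).1, hsub c ((hmemH _ _).mp hc).1 ((hmemH _ _).mp hc).2⟩)
        (hcard z hzN hz1 v₁ h1 h11).le
      have e2 : H v₂ = H z := Subgroup.eq_of_le_of_card_ge
        (fun c hc => (hmemH _ _).mpr ⟨((hmemH _ _).mp hc).1, hsub2 c ((hmemH _ _).mp hc).1 ((hmemH _ _).mp hc).2⟩)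
        (hcard z hzN hz1 v₂ h2 h21).le
      exact hne (e1.trans e2.symm)
    have e1 : H (v₁ * v₂) = H v₁ := Subgroup.eq_of_le_of_card_ge
      (fun c hc => (hmemH _ _).mpr ⟨((hmemH _ _).mp hc).1, key c hc⟩)
      (hcard v₁ h1 h11 _ (mul_mem h1 h2) hw1).le
    have e2 : H (v₁ * v₂) = H v₂ := Subgroup.eq_of_le_of_card_ge
      (fun c hc => (hmemH _ _).mpr ⟨((hmemH _ _).mp hc).1, by
        have h5 := (key c hc).inv_right.mul_right ((hmemH _ _).mp hc).2
        rwa [inv_mul_cancel_left] at h5⟩)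
      (hcard v₂ h2 h21 _ (mul_mem h1 h2) hw1).le
    exact hne (e1.symm.trans e2)
  have hc₀N : c₀ ∈ Subgroup.centralizer (N : Set G) := by
    refine Subgroup.mem_centralizer_iff.mpr fun v hv => ?_
    by_cases hv1 : v = 1
    · simp [hv1]
    have : c₀ ∈ H v := hsame v₀ hv₀ hv₀1 v hv hv1 ▸ (hmemH _ _).mpr ⟨hc₀, hcv⟩
    exact ((hmemH _ _).mp this).2.eq.symm
  apply hN0
  rw [eq_bot_iff, ← hbot]
  intro n hn
  refine ⟨hn, Subgroup.mem_centralizer_iff.mpr fun c hc => ?_⟩
  by_cases hc1 : c = 1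
  · simp [hc1]
  have := mem_of_same_order hB (L := Subgroup.centralizer (N : Set G)) (x := c₀) (y := c)
    (by rw [orderOf_eq_of_pow (hCexp _ hc₀) hc₀1, orderOf_eq_of_pow (hCexp _ hc) hc1]) hc₀N
  exact (Subgroup.mem_centralizer_iff.mp this n hn).symm

theorem dichotomy_aux : ∀ (n : ℕ) (G : Type u) [Group G] [Finite G], Nat.card G = n →
    Group.IsSolvable G → AbConj G → ∀ (r : ℕ) [Fact r.Prime], ¬ RankOne G r →
      ∃ R : Subgroup G, R.Normal ∧ Cfsg.IsElementaryAbelian r R ∧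
        ∃ t, 2 ≤ t ∧ Nat.card R = r ^ t := by
  intro n
  induction n using Nat.strong_induction_on with
  | _ n ih =>
    intro G _ _ hn hsol hB r hr hne
    unfold RankOne at hne
    push Not at hne
    obtain ⟨x, y, hxr, hyr, hx1, hxy, hyx⟩ := hne
    haveI := hsol
    have hnt : (⊤ : Subgroup G) ≠ ⊥ := fun h => hx1 (by
      have : x ∈ (⊥ : Subgroup G) := h ▸ Subgroup.mem_top x
      simpa using this)
    obtain ⟨N, hNn, -, hN0, hmin⟩ := exists_minimal_normal (G := G) inferInstance hnt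
    haveI := hNn
    obtain ⟨hNc, p, hpp, hexp⟩ := Cfsg.Agent.S0043.result N hN0 hmin
    haveI := Fact.mk hpp
    have hNp : IsPGroup p N := fun z => ⟨1, Subtype.ext (by simpa using hexp z z.2)⟩
    obtain ⟨k, hk⟩ := IsPGroup.iff_card.mp hNp
    have hk0 : k ≠ 0 := fun h => hN0 (Subgroup.eq_bot_of_card_eq N (by rw [hk, h, pow_zero]))
    have hox := orderOf_eq_of_pow hxr hx1
    by_cases hpr : p = r
    · subst hpr
      obtain ⟨n0, hn0⟩ := exists_prime_orderOf_dvd_card' (G := N) p (hk ▸ dvd_pow_self p hk0)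
      rw [← Subgroup.orderOf_coe] at hn0
      have hxN : x ∈ N := mem_of_same_order hB (hn0.trans hox.symm) n0.2
      have hy1 : y ≠ 1 := fun h => hyx (h ▸ one_mem _)
      have hyN : y ∈ N := mem_of_same_order hB (hn0.trans (orderOf_eq_of_pow hyr hy1).symm) n0.2
      refine ⟨N, hNn, ⟨hNc, hexp⟩, k, ?_, hk⟩
      by_contra hk2
      apply hyx
      rw [Cfsg.Agent.S3912.eq_zpowers (p := p) (by rw [hk, show k = 1 by omega, pow_one]) hxN hx1]
      exact hyN
    have hcop : p.Coprime r := (Nat.coprime_primes hpp hr.out).mpr hpr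
    have hlt : Nat.card (G ⧸ N) < n := by
      rw [← hn, Subgroup.card_eq_card_quotient_mul_card_subgroup N]
      exact lt_mul_of_one_lt_right Nat.card_pos (N.one_lt_card_iff_ne_bot.mpr hN0)
    set f := QuotientGroup.mk' N
    have hker : ∀ z, f z = 1 → z ∈ N := fun z hz => (QuotientGroup.eq_one_iff z).mp hz
    have hinj : ∀ z, z ^ r = 1 → f z = 1 → z = 1 := fun z hz hf =>
      eq_one_of_pow_coprime hcop (hexp z (hker z hf)) hz
    obtain ⟨Rb, hRbn, hRbe, t, ht, hRbc⟩ := ih _ hlt (G ⧸ N) rfl inferInstance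
      (Cfsg.Agent.S3912.result hB hsol N) r (fun h => hyx (by
        obtain ⟨i, hi⟩ := h (f x) (f y) (by rw [← map_pow, hxr, map_one])
          (by rw [← map_pow, hyr, map_one]) (fun e => hx1 (hinj x hxr e)) (hxy.map f)
        refine ⟨i, mul_inv_eq_one.mp (hinj (x ^ i * y⁻¹) ?_ ?_)⟩
        · rw [((hxy.zpow_left i).inv_right).mul_pow, inv_pow, hyr, inv_one, mul_one, ← zpow_natCast,
            ← zpow_mul, mul_comm, zpow_mul, zpow_natCast, hxr, one_zpow]
        · rw [map_mul, map_inv, map_zpow, ← hi, mul_inv_cancel]))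
    obtain ⟨C, hCmap, hCcard, hCc⟩ := Cfsg.Agent.S3912.lift N Rb hRbe.1
      (by rw [hk, hRbc]; exact Nat.Coprime.pow _ _ hcop)
    rw [hRbc] at hCcard
    have hCexp : ∀ c ∈ C, c ^ r = 1 := by
      intro c hc
      have h1 : f (c ^ r) = 1 := by
        rw [map_pow]; exact hRbe.2 _ (hCmap ▸ Subgroup.mem_map_of_mem f hc)
      refine eq_one_of_pow_coprime (Nat.Coprime.pow_right t hcop) (hexp _ (hker _ h1)) ?_
      rw [← hCcard]
      exact congrArg Subtype.val (pow_card_eq_one' (x := (⟨c ^ r, pow_mem hc r⟩ : C)))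
    -- Frattini argument
    have hfr : ∀ g : G, ∃ m ∈ N, m⁻¹ * g ∈ Subgroup.normalizer (C : Set G) := by
      intro g
      set C' := C.map (MulAut.conj g).toMonoidHom
      have hC'card : Nat.card C' = Nat.card C :=
        Subgroup.card_map_of_injective (MulAut.conj g).injective
      have hc1 : (Nat.card N).Coprime (Nat.card C) := by
        rw [hk, hCcard]; exact Nat.Coprime.pow _ _ hcop
      have hle : C' ≤ N ⊔ C := by
        rintro _ ⟨c, hc, rfl⟩
        have h1 : f (g * c * g⁻¹) ∈ C.map f := by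
          rw [hCmap, map_mul, map_mul, map_inv]
          exact hRbn.conj_mem _ (hCmap ▸ Subgroup.mem_map_of_mem f hc) _
        rw [← Subgroup.mem_comap, Subgroup.comap_map_eq, QuotientGroup.ker_mk', sup_comm] at h1
        exact h1
      obtain ⟨m, hm, hC'⟩ := CfsgLib.Hall.exists_conj_le_of_complement
        (Group.isSolvable_of_isSolvable_injective (Subgroup.subtype_injective N)) hc1 (hC'card ▸ hc1) hle
      refine ⟨m, hm, ?_⟩
      refine Subgroup.mem_normalizer_fintype fun c hc => ?_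
      have h2 := hC' (Subgroup.mem_map_of_mem _ hc)
      rw [Subgroup.mem_pointwise_smul_iff_inv_smul_mem] at h2
      have h3 : m⁻¹ * (g * c * g⁻¹) * m ∈ C := h2
      show m⁻¹ * g * c * (m⁻¹ * g)⁻¹ ∈ C
      convert h3 using 1
      group
    obtain ⟨x', hx', hx'1⟩ : ∃ c ∈ C, c ≠ 1 := by
      obtain ⟨c, hc⟩ := exists_prime_orderOf_dvd_card' (G := C) r (hCcard ▸ dvd_pow_self r (by omega))
      exact ⟨c, c.2, fun h => hr.out.ne_one (by rw [← hc, ← Subgroup.orderOf_coe, h, orderOf_one])⟩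
    obtain ⟨y', hy', hy'x⟩ : ∃ c ∈ C, c ∉ Subgroup.zpowers x' := by
      by_contra hno
      push Not at hno
      have h1 := Subgroup.card_le_of_le hno
      rw [hCcard, Nat.card_zpowers, orderOf_eq_of_pow (hCexp x' hx') hx'1] at h1
      have h2 : r < r ^ t := by
        calc r = r ^ 1 := (pow_one r).symm
          _ < r ^ t := Nat.pow_lt_pow_right hr.out.one_lt (by omega)
      omega
    have hcomm := centralize hB N C hN0 hmin hNc hexp hpp hpr hCc hCexp hx' hy' hx'1 hy'x hfr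
    refine ⟨C, ⟨fun c hc g => ?_⟩, ⟨hCc, hCexp⟩, t, ht, hCcard⟩
    obtain ⟨m, hm, ha⟩ := hfr g
    have h1 := (Subgroup.mem_normalizer_iff.mp ha c).mp hc
    have h2 := hcomm _ h1 m hm
    have e : g * c * g⁻¹ = m * (m⁻¹ * g * c * (m⁻¹ * g)⁻¹) * m⁻¹ := by group
    rw [e, ← h2.eq, mul_inv_cancel_right]
    exact h1

/-- If the `r`-rank exceeds one then the Sylow `r`-subgroup is normal elementary abelian. -/
theorem dichotomy (hsol : Group.IsSolvable G) (hB : AbConj G) {r : ℕ} [hr : Fact r.Prime]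
    (h : ¬ RankOne G r) : ∃ R : Subgroup G, R.Normal ∧ Cfsg.IsElementaryAbelian r R ∧
      ∀ P : Sylow r G, (P : Subgroup G) = R := by
  obtain ⟨R, hRn, hRe, t, ht, hc⟩ := dichotomy_aux _ G rfl hsol hB r h
  haveI := hRn
  exact ⟨R, hRn, hRe, (Cfsg.Agent.S3909.result hB R).2 r t ht hc hRe⟩

end CfsgLib.AbConjAll
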