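import Mathlib
import Cfsg.Agent.S3912
import Cfsg.Agent.Lib.ZStar.Recognize
import Cfsg.Agent.Lib.AbConjAll.Rank

/-!
Quaternion Sylow subgroups in groups with conjugate abelian subgroups of equal order.
-/

set_option autoImplicit false
set_option linter.style.haveILetI false

universe u

namespace CfsgLib.AbConjAll

open Cfsg.Agent.S3912 (AbConj mem_of_same_order)

variable {G : Type u} [Group G]

theorem quat_involution : ∀ x : QuaternionGroup 2, x ^ 2 = 1 → x = 1 ∨ x = QuaternionGroup.a 2 := by
  decide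

theorem quat_comm : ∃ i j : QuaternionGroup 2, i * j ≠ j * i :=
  ⟨QuaternionGroup.a 1, QuaternionGroup.xa 0, by decide⟩

theorem quat_pow_eight : ∀ x : QuaternionGroup 2, x ^ 8 = 1 := by decide

variable [Finite G]

/-- A normal subgroup with an element of order four absorbs a quaternion subgroup. -/
theorem quat_le (hB : AbConj G) {f : QuaternionGroup 2 →* G} (hf : Function.Injective f)
    {K : Subgroup G} [K.Normal] {u : G} (hu : u ∈ K) (hu4 : orderOf u = 4) : f.range ≤ K := by
  rintro _ ⟨q, rfl⟩
  have hxa : ∀ i : ZMod (2 * 2), f (QuaternionGroup.xa i) ∈ K := fun i =>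
    mem_of_same_order hB (by rw [hu4, orderOf_injective f hf, QuaternionGroup.orderOf_xa]) hu
  rcases q with i | i
  · have : (QuaternionGroup.a i : QuaternionGroup 2) =
        QuaternionGroup.xa ((2 : ℕ) : ZMod (2 * 2)) * QuaternionGroup.xa i := by
      rw [QuaternionGroup.xa_mul_xa]; congr 1; ring
    rw [this, map_mul]
    exact mul_mem (hxa _) (hxa _)
  · exact hxa i

omit [Finite G] in
/-- An element acting on every cyclic subgroup, with square acting trivially, is `±1`. -/
theorem plus_minus {N : Subgroup G} (hNc : IsMulCommutative ↥N) {p : ℕ}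
    (hp : p.Prime) (hexp : ∀ x ∈ N, x ^ p = 1) {x : G}
    (hline : ∀ v ∈ N, x * v * x⁻¹ ∈ Subgroup.zpowers v) (hsq : ∀ v ∈ N, Commute (x * x) v) :
    (∀ v ∈ N, x * v * x⁻¹ = v) ∨ (∀ v ∈ N, x * v * x⁻¹ = v⁻¹) := by
  have hNcomm : ∀ a ∈ N, ∀ b ∈ N, a * b = b * a := fun a ha b hb =>
    congrArg Subtype.val (hNc.is_comm.comm (⟨a, ha⟩ : N) ⟨b, hb⟩)
  have pt : ∀ v ∈ N, x * v * x⁻¹ = v ∨ x * v * x⁻¹ = v⁻¹ := by
    intro v hv
    by_cases hv1 : v = 1
    · left; simp [hv1]
    haveI := Fact.mk hp
    have ho := orderOf_eq_prime (hexp v hv) hv1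
    obtain ⟨a, ha⟩ := hline v hv
    have ha' : x * v * x⁻¹ = v ^ a := ha.symm
    have h2 : v ^ (a * a) = v ^ (1 : ℤ) := by
      rw [zpow_mul, ← ha', conj_zpow, ← ha']
      rw [zpow_one]
      have := (hsq v hv).eq
      calc x * (x * v * x⁻¹) * x⁻¹ = (x * x * v) * (x * x)⁻¹ := by group
        _ = v := by rw [this, mul_inv_cancel_right]
    rw [zpow_eq_zpow_iff_modEq, ho] at h2
    have h3 : ((a : ZMod p)) * (a : ZMod p) = 1 := by
      have := (ZMod.intCast_eq_intCast_iff _ _ p).mpr h2
      push_cast at this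
      exact this
    rcases mul_self_eq_one_iff.mp h3 with h | h
    · left
      rw [ha']
      conv_rhs => rw [← zpow_one v]
      rw [zpow_eq_zpow_iff_modEq, ho, ← ZMod.intCast_eq_intCast_iff]
      simpa using h
    · right
      rw [ha', ← zpow_neg_one, zpow_eq_zpow_iff_modEq, ho, ← ZMod.intCast_eq_intCast_iff]
      simpa using h
  by_contra hno
  push Not at hno
  obtain ⟨⟨w, hw, hw'⟩, v, hv, hv'⟩ := hno
  have hvf := (pt v hv).resolve_right hv'
  have hwi := (pt w hw).resolve_left hw'
  have he : x * (v * w) * x⁻¹ = v * w⁻¹ := by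
    calc x * (v * w) * x⁻¹ = (x * v * x⁻¹) * (x * w * x⁻¹) := by group
      _ = v * w⁻¹ := by rw [hvf, hwi]
  rcases pt (v * w) (mul_mem hv hw) with h | h <;> rw [he] at h
  · exact hw' (hwi.trans (mul_left_cancel h))
  · rw [hNcomm v hv w hw, mul_inv_rev] at h
    exact hv' (hvf.trans (mul_right_cancel h))

omit [Finite G] in
theorem commute_of_conj_zpow {x y v : G} {a b : ℤ} (hx : x * v * x⁻¹ = v ^ a)
    (hy : y * v * y⁻¹ = v ^ b) : x * y * v * (x * y)⁻¹ = y * x * v * (y * x)⁻¹ := by
  calc x * y * v * (x * y)⁻¹ = x * (y * v * y⁻¹) * x⁻¹ := by group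
    _ = v ^ (a * b) := by rw [hy, ← conj_zpow, hx, ← zpow_mul]
    _ = v ^ (b * a) := by rw [mul_comm]
    _ = y * (x * v * x⁻¹) * y⁻¹ := by rw [hx, ← conj_zpow, hy, ← zpow_mul]
    _ = y * x * v * (y * x)⁻¹ := by group

/-- A quaternion group fixing every cyclic subgroup of `N` centralises `N`. -/
theorem quat_centralises (hB : AbConj G) {N : Subgroup G} [hN : N.Normal]
    (hNc : IsMulCommutative ↥N) {p : ℕ} (hp : p.Prime) (hexp : ∀ x ∈ N, x ^ p = 1)
    {f : QuaternionGroup 2 →* G} (hf : Function.Injective f)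
    (hline : ∀ q : QuaternionGroup 2, ∀ v ∈ N, f q * v * (f q)⁻¹ ∈ Subgroup.zpowers v) :
    ∀ u : G, orderOf u = 4 → u ∈ Subgroup.centralizer (N : Set G) := by
  set i : QuaternionGroup 2 := QuaternionGroup.a 1
  set j : QuaternionGroup 2 := QuaternionGroup.xa 0
  have hz : ∀ v ∈ N, Commute (f (QuaternionGroup.a 2)) v := by
    intro v hv
    set m := f j * f i
    have hw : m⁻¹ * v * m ∈ N := by simpa using hN.conj_mem v hv m⁻¹
    obtain ⟨a, ha⟩ := hline i _ hw
    obtain ⟨b, hb⟩ := hline j _ hw
    have h := commute_of_conj_zpow ha.symm hb.symm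
    have e : (QuaternionGroup.a 2 : QuaternionGroup 2) * (j * i) = i * j := by decide
    rw [← map_mul f i j, ← e, map_mul, map_mul] at h
    refine mul_inv_eq_iff_eq_mul.mp ?_
    have e1 : f (QuaternionGroup.a 2) * v * (f (QuaternionGroup.a 2))⁻¹ =
        f (QuaternionGroup.a 2) * m * (m⁻¹ * v * m) * (f (QuaternionGroup.a 2) * m)⁻¹ := by group
    rw [e1, h]
    simp only [m]
    group
  have hsq : ∀ q : QuaternionGroup 2, q * q = QuaternionGroup.a 2 → ∀ v ∈ N, Commute (f q * f q) v :=
    fun q hq v hv => by rw [← map_mul, hq]; exact hz v hv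
  obtain ⟨q, hq, hqc⟩ : ∃ q : QuaternionGroup 2, orderOf q = 4 ∧ ∀ v ∈ N, f q * v * (f q)⁻¹ = v := by
    have oi : orderOf i = 4 := by rw [QuaternionGroup.orderOf_a_one]
    have oj : orderOf j = 4 := QuaternionGroup.orderOf_xa 0
    have oij : orderOf (i * j) = 4 := by
      rw [show i * j = QuaternionGroup.xa ((0 : ZMod (2 * 2)) - 1) from QuaternionGroup.a_mul_xa _ _]
      exact QuaternionGroup.orderOf_xa _
    rcases plus_minus hNc hp hexp (hline i) (hsq i (by decide)) with h | h
    · exact ⟨i, oi, h⟩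
    rcases plus_minus hNc hp hexp (hline j) (hsq j (by decide)) with h' | h'
    · exact ⟨j, oj, h'⟩
    refine ⟨i * j, oij, fun v hv => ?_⟩
    calc f (i * j) * v * (f (i * j))⁻¹ = f i * (f j * v * (f j)⁻¹) * (f i)⁻¹ := by
          rw [map_mul]; group
      _ = v := by rw [h' v hv, h _ (inv_mem hv), inv_inv]
  have hmem : f q ∈ Subgroup.centralizer (N : Set G) := Subgroup.mem_centralizer_iff.mpr
    fun v hv => (mul_inv_eq_iff_eq_mul.mp (hqc v hv)).symm
  intro u hu
  exact mem_of_same_order hB (by rw [hu, orderOf_injective f hf, hq]) hmem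

/-- A normal subgroup whose elements of odd order commute is a `2`-group, if there is no nontrivial
normal subgroup of odd order. -/
theorem isPGroup_two_of_comm (hno : ∀ M : Subgroup G, M.Normal → Odd (Nat.card M) → M = ⊥)
    {K : Subgroup G} [hK : K.Normal]
    (hcomm : ∀ x ∈ K, ∀ y ∈ K, Odd (orderOf x) → Odd (orderOf y) → Commute x y) :
    IsPGroup 2 K := by
  have hdvd : ∀ {a b : ℕ}, a ∣ b → Odd b → Odd a := fun h hb => Odd.of_dvd_nat hb h
  let S : Subgroup G :=
    { carrier := {x | x ∈ K ∧ Odd (orderOf x)}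
      one_mem' := ⟨one_mem K, by simp⟩
      mul_mem' := fun {x y} hx hy => ⟨mul_mem hx.1 hy.1,
        hdvd ((hcomm x hx.1 y hy.1 hx.2 hy.2).orderOf_mul_dvd_mul_orderOf) (hx.2.mul hy.2)⟩
      inv_mem' := fun {x} hx => ⟨inv_mem hx.1, by rw [orderOf_inv]; exact hx.2⟩ }
  have hS : S.Normal := ⟨fun x hx g => ⟨hK.conj_mem x hx.1 g, by
    rw [show g * x * g⁻¹ = MulAut.conj g x from rfl, MulEquiv.orderOf_eq]; exact hx.2⟩⟩
  have hSodd : Odd (Nat.card S) := by
    rw [Nat.odd_iff]
    by_contra h
    obtain ⟨x, hx⟩ := exists_prime_orderOf_dvd_card' (G := S) 2 (by omega)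
    have := x.2.2
    rw [Subgroup.orderOf_coe, hx] at this
    exact absurd this (by decide)
  intro x
  obtain ⟨k, m, hm, e⟩ := Nat.exists_eq_two_pow_mul_odd (n := orderOf (x : G)) (orderOf_pos _).ne'
  have hmem : (x : G) ^ 2 ^ k ∈ S := ⟨pow_mem x.2 _, by
    rw [orderOf_pow_of_dvd (by positivity) ⟨m, e⟩, e, Nat.mul_div_cancel_left _ (by positivity)]
    exact hm⟩
  rw [hno S hS hSodd, Subgroup.mem_bot] at hmem
  exact ⟨k, Subtype.ext hmem⟩

omit [Finite G] in
theorem range_card {f : QuaternionGroup 2 →* G} (hf : Function.Injective f) :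
    Nat.card f.range = 8 := by
  rw [← Nat.card_congr (MonoidHom.ofInjective hf).toEquiv, Nat.card_eq_fintype_card,
    QuaternionGroup.card]

omit [Finite G] in
/-- A `2`-group inside the quaternion group has exponent two or an element of order four. -/
theorem sub_exponent {f : QuaternionGroup 2 →* G} (hf : Function.Injective f) {X : Subgroup G}
    (hX : X ≤ f.range) (h4 : ∀ u ∈ X, orderOf u ≠ 4) :
    ∀ u ∈ X, u = 1 ∨ u = f (QuaternionGroup.a 2) := by
  intro u hu
  obtain ⟨q, rfl⟩ := hX hu
  have hq : orderOf q ≠ 4 := fun h => h4 _ hu (by rw [orderOf_injective f hf, h])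
  have key : ∀ q : QuaternionGroup 2, q = 1 ∨ q = QuaternionGroup.a 2 ∨ (q ^ 4 = 1 ∧ q ^ 2 ≠ 1) := by
    decide
  rcases key q with h | h | ⟨h1, h2⟩
  · left; rw [h, map_one]
  · right; rw [h]
  · exact absurd (orderOf_eq_prime_pow (p := 2) (n := 1) (by simpa using h2) (by simpa using h1)) hq

theorem sub_cyclic {f : QuaternionGroup 2 →* G} (hf : Function.Injective f) {X : Subgroup G}
    (hX : X ≤ f.range) (hne : X ≠ f.range) : IsCyclic X := by
  haveI := Fact.mk Nat.prime_two
  have hlt : Nat.card X < 8 := by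
    by_contra h
    exact hne (Subgroup.eq_of_le_of_card_ge hX (by rw [range_card hf]; omega))
  have hp : IsPGroup 2 X :=
    (IsPGroup.of_card (n := 3) (by rw [range_card hf]; norm_num)).to_le hX
  rcases CfsgLib.ZStar.cyclic_or_quaternion hp (fun x y hx hy => Subtype.ext (by
    have key : ∀ w : X, orderOf w = 2 → (w : G) = f (QuaternionGroup.a 2) := by
      intro w hw
      obtain ⟨q, hq⟩ := hX w.2
      rw [← hq]
      rcases quat_involution q (hf (by
        rw [map_pow, hq, map_one, ← Subgroup.coe_pow, ← hw, pow_orderOf_eq_one]; rfl)) with h | h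
      · rw [← Subgroup.orderOf_coe, ← hq, h, map_one, orderOf_one] at hw
        omega
      · rw [h]
    rw [key x hx, key y hy])) with h | ⟨n, ⟨e⟩⟩
  · exact h
  match n, e with
  | 0, e =>
    exact isCyclic_of_orderOf_eq_card (e.symm (QuaternionGroup.xa 0 : QuaternionGroup (2 ^ 0)))
      (by rw [MulEquiv.orderOf_eq, QuaternionGroup.orderOf_xa, Nat.card_congr e.toEquiv,
        Nat.card_eq_fintype_card, QuaternionGroup.card, pow_zero, mul_one])
  | n + 1, e =>
    rw [Nat.card_congr e.toEquiv, Nat.card_eq_fintype_card, QuaternionGroup.card, pow_succ] at hlt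
    have : 1 ≤ 2 ^ n := Nat.one_le_two_pow
    omega

/-- A quaternion Sylow subgroup is normal when the odd Sylow subgroups are cyclic. -/
theorem quat_normal_aux : ∀ (n : ℕ) (G : Type u) [Group G] [Finite G], Nat.card G = n →
    Group.IsSolvable G → AbConj G →
    (∀ (r : ℕ) [Fact r.Prime], r ≠ 2 → ∀ P : Sylow r G, IsCyclic P) →
    ∀ (f : QuaternionGroup 2 →* G), Function.Injective f →
      (∃ P : Sylow 2 G, (P : Subgroup G) = f.range) → f.range.Normal := by
  intro n
  induction n using Nat.strong_induction_on with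
  | _ n ih =>
    intro G _ _ hn hsol hB hodd f hf ⟨P, hP⟩
    haveI := hsol
    haveI := Fact.mk Nat.prime_two
    have hcQ := range_card hf
    have h2le : ∀ K : Subgroup G, K.Normal → IsPGroup 2 K → K ≤ f.range := by
      intro K hK hK2
      haveI := hK
      have h := P.3 (hK2.to_sup_of_normal_left P.2) le_sup_right
      rw [← hP]
      exact le_sup_left.trans h.le
    by_cases hno : ∀ M : Subgroup G, M.Normal → Odd (Nat.card M) → M = ⊥
    · -- the last terms of the derived series
      have hex : ∃ m, derivedSeries G m = ⊥ := hsol.solvable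
      classical
      have hd := Nat.find_spec hex
      have hd0 : 2 ≤ Nat.find hex := by
        by_contra h
        have h1 : derivedSeries G 1 = ⊥ := by
          rw [eq_bot_iff, ← hd]; exact derivedSeries_antitone G (by omega)
        rw [derivedSeries_succ, derivedSeries_zero, Subgroup.commutator_self_eq_bot_iff] at h1
        obtain ⟨i, j, hij⟩ := quat_comm
        exact hij (hf (by
          rw [map_mul, map_mul]
          exact Cfsg.Agent.S3912.mem_of_comm h1 (Subgroup.mem_top _) (Subgroup.mem_top _)))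
      obtain ⟨m, hm⟩ : ∃ m, Nat.find hex = m + 2 := ⟨Nat.find hex - 2, by omega⟩
      set Z := derivedSeries G (m + 1)
      set K := derivedSeries G m
      haveI : Z.Normal := derivedSeries_normal G _
      haveI : K.Normal := derivedSeries_normal G _
      have hZc : IsMulCommutative ↥Z := by
        rw [hm, derivedSeries_succ] at hd
        exact Subgroup.commutator_self_eq_bot_iff.mp hd
      have hZ2 : IsPGroup 2 Z := isPGroup_two_of_comm hno
        (fun x hx y hy _ _ => Cfsg.Agent.S3912.mem_of_comm hZc hx hy)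
      have hZQ := h2le Z inferInstance hZ2
      have hZ4 : ∀ u ∈ Z, orderOf u ≠ 4 := by
        intro u hu h4
        have hle := quat_le hB hf hu h4
        obtain ⟨i, j, hij⟩ := quat_comm
        exact hij (hf (by
          rw [map_mul, map_mul]
          exact Cfsg.Agent.S3912.mem_of_comm hZc (hle ⟨i, rfl⟩) (hle ⟨j, rfl⟩)))
      have hZe := sub_exponent hf hZQ hZ4
      have hZcen : ∀ c ∈ Z, ∀ g : G, Commute g c := by
        intro c hc g
        rcases hZe c hc with rfl | rfl
        · exact Commute.one_right g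
        rcases hZe _ ((inferInstance : Z.Normal).conj_mem _ hc g) with h | h
        · rw [mul_inv_eq_one, mul_eq_left] at h
          rw [h]; exact Commute.one_right g
        · exact mul_inv_eq_iff_eq_mul.mp h
      have hK2 : IsPGroup 2 K := isPGroup_two_of_comm hno fun x hx y hy hxo _ => by
        set c := x⁻¹ * (y * x * y⁻¹)
        have hc : c ∈ Z := by
          have h := Subgroup.commutator_mem_commutator (inv_mem hx) hy
          rw [show Z = ⁅K, K⁆ from derivedSeries_succ G m]
          rw [commutatorElement_def, inv_inv] at h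
          simpa [c, mul_assoc] using h
        rcases hZe c hc with h1 | h1
        · have : y * x * y⁻¹ = x := (inv_mul_eq_one.mp h1).symm
          exact (mul_inv_eq_iff_eq_mul.mp this).symm
        exfalso
        have hcomm : Commute x c := hZcen c hc x
        have hxc : x * c = y * x * y⁻¹ := by simp only [c]; group
        have ho : orderOf c ∣ orderOf x := by
          have hyx : (x * c) ^ orderOf x = 1 := by
            rw [hxc, conj_pow, pow_orderOf_eq_one, mul_one, mul_inv_cancel]
          rw [hcomm.mul_pow, pow_orderOf_eq_one, one_mul] at hyx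
          exact orderOf_dvd_of_pow_eq_one hyx
        rw [h1, orderOf_injective f hf] at ho
        rw [show orderOf (QuaternionGroup.a 2 : QuaternionGroup 2) = 2 from
          orderOf_eq_prime (by decide) (by decide)] at ho
        exact Nat.not_even_iff_odd.mpr hxo (even_iff_two_dvd.mpr ho)
      have hKQ := h2le K inferInstance hK2
      obtain ⟨u, hu, hu4⟩ : ∃ u ∈ K, orderOf u = 4 := by
        by_contra hno4
        push Not at hno4
        have hKe := sub_exponent hf hKQ hno4
        have : derivedSeries G (m + 1) = ⊥ := by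
          rw [derivedSeries_succ, Subgroup.commutator_self_eq_bot_iff]
          refine Cfsg.Agent.S3912.comm_of fun x hx y hy => ?_
          rcases hKe x hx with rfl | rfl <;> rcases hKe y hy with h | h <;> subst h <;> simp
        have := Nat.find_min' hex this
        omega
      rw [le_antisymm (quat_le hB hf hu hu4) hKQ]
      infer_instance
    push Not at hno
    obtain ⟨M, hMn, hModd, hM0⟩ := hno
    obtain ⟨N, hNn, hNM, hN0, hmin⟩ := exists_minimal_normal hMn hM0
    haveI := hNn
    obtain ⟨hNc, p, hpp, hexp⟩ := Cfsg.Agent.S0043.result N hN0 hmin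
    haveI := Fact.mk hpp
    have hNodd : Odd (Nat.card N) := Odd.of_dvd_nat hModd (Subgroup.card_dvd_of_le hNM)
    have hNp : IsPGroup p N := fun z => ⟨1, Subtype.ext (by simpa using hexp z z.2)⟩
    obtain ⟨k, hk⟩ := IsPGroup.iff_card.mp hNp
    have hk0 : k ≠ 0 := fun h => hN0 (Subgroup.eq_bot_of_card_eq N (by rw [hk, h, pow_zero]))
    have hp2 : p ≠ 2 := by
      rintro rfl
      rw [hk, Nat.odd_iff] at hNodd
      have : 2 ∣ 2 ^ k := dvd_pow_self 2 hk0
      omega
    obtain ⟨T, hT⟩ := hNp.exists_le_sylow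
    haveI : IsCyclic (T : Subgroup G) := hodd p hp2 T
    haveI : IsCyclic N := isCyclic_of_injective (Subgroup.inclusion hT) (Subgroup.inclusion_injective hT)
    have hNcard : Nat.card N = p := by
      obtain ⟨w, hw⟩ := IsCyclic.exists_ofOrder_eq_natCard (α := N)
      have h1 : orderOf w ∣ p := orderOf_dvd_of_pow_eq_one (Subtype.ext (by simpa using hexp w w.2))
      rw [hw, hk] at h1
      have h2 : p ^ k ∣ p ^ 1 := by rwa [pow_one]
      rw [hk, show k = 1 by have := (Nat.pow_dvd_pow_iff_le_right hpp.one_lt).mp h2; omega, pow_one]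
    have hcent := quat_centralises hB hNc hpp hexp hf (fun q v hv => by
      by_cases hv1 : v = 1
      · simp [hv1]
      rw [Cfsg.Agent.S3912.eq_zpowers (p := p) hNcard hv hv1]
      exact hNn.conj_mem v hv _)
    obtain ⟨u, hu⟩ : ∃ u : G, orderOf u = 4 :=
      ⟨f (QuaternionGroup.xa 0), by rw [orderOf_injective f hf, QuaternionGroup.orderOf_xa]⟩
    have hQC := quat_le hB hf (K := Subgroup.centralizer (N : Set G)) (hcent u hu) hu
    have hcop : (8 : ℕ).Coprime (Nat.card N) := by
      rw [hNcard]
      exact Nat.Coprime.pow_left 3 ((Nat.coprime_primes Nat.prime_two hpp).mpr hp2.symm)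
    have hpN : ∀ z ∈ N, z ^ Nat.card N = 1 := fun z hz => by rw [hNcard]; exact hexp z hz
    have hfinj : Function.Injective ((QuotientGroup.mk' N).comp f) := by
      rw [injective_iff_map_eq_one]
      intro q hq
      refine hf ?_
      rw [map_one]
      refine eq_one_of_pow_coprime hcop ?_ (hpN _ ((QuotientGroup.eq_one_iff _).mp hq))
      rw [← map_pow, quat_pow_eight, map_one]
    have hlt : Nat.card (G ⧸ N) < n := by
      rw [← hn, Subgroup.card_eq_card_quotient_mul_card_subgroup N]
      exact lt_mul_of_one_lt_right Nat.card_pos (N.one_lt_card_iff_ne_bot.mpr hN0)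
    have hnorm := ih _ hlt (G ⧸ N) rfl inferInstance (Cfsg.Agent.S3912.result hB hsol N)
      (fun r hr hr2 S => by
        obtain ⟨S', rfl⟩ := Sylow.mapSurjective_surjective (QuotientGroup.mk'_surjective N) r S
        haveI : IsCyclic (S' : Subgroup G) := hodd r hr2 S'
        exact isCyclic_of_surjective ((QuotientGroup.mk' N).subgroupMap (S' : Subgroup G))
          (MonoidHom.subgroupMap_surjective _ _))
      _ hfinj ⟨P.mapSurjective (QuotientGroup.mk'_surjective N), by
        rw [MonoidHom.range_comp, ← hP]; rfl⟩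
    refine ⟨fun x hx g => ?_⟩
    obtain ⟨q, rfl⟩ := hx
    have h1 : QuotientGroup.mk' N (g * f q * g⁻¹) ∈ ((QuotientGroup.mk' N).comp f).range := by
      rw [map_mul, map_mul, map_inv]
      exact hnorm.conj_mem _ ⟨q, rfl⟩ _
    obtain ⟨q', hq'⟩ := h1
    have hz : (f q')⁻¹ * (g * f q * g⁻¹) ∈ N := QuotientGroup.eq.mp hq'
    have hcz : Commute (f q') ((f q')⁻¹ * (g * f q * g⁻¹)) :=
      (Subgroup.mem_centralizer_iff.mp (hQC ⟨q', rfl⟩) _ hz).symm
    have h8 : ((f q')⁻¹ * (g * f q * g⁻¹)) ^ 8 = 1 := by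
      have e := hcz.mul_pow 8
      rw [mul_inv_cancel_left, conj_pow, ← map_pow, quat_pow_eight, map_one, mul_one,
        mul_inv_cancel, ← map_pow, quat_pow_eight, map_one, one_mul] at e
      exact e.symm
    refine ⟨q', inv_mul_eq_one.mp ?_⟩
    exact eq_one_of_pow_coprime hcop h8 (hpN _ hz)

theorem quat_normal (hsol : Group.IsSolvable G) (hB : AbConj G)
    (hodd : ∀ (r : ℕ) [Fact r.Prime], r ≠ 2 → ∀ P : Sylow r G, IsCyclic P)
    {f : QuaternionGroup 2 →* G} (hf : Function.Injective f) (P : Sylow 2 G)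
    (hP : (P : Subgroup G) = f.range) : f.range.Normal :=
  quat_normal_aux _ G rfl hsol hB hodd f hf ⟨P, hP⟩

end CfsgLib.AbConjAll
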