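import Mathlib
import Cfsg.Agent.Lib.AbConjAll.Rank
import Cfsg.Agent.Lib.AbConjAll.Conj
import Cfsg.Agent.Lib.AbConjAll.Quat

/-!
In a finite solvable group with conjugate abelian subgroups of equal order, all subgroups of equal
order are conjugate.
-/

set_option autoImplicit false
set_option linter.style.haveILetI false

universe u

namespace CfsgLib.AbConjAll

open Cfsg.Agent.S3912 (AbConj mem_of_same_order comm_of mem_of_comm)

variable {G : Type u} [Group G] [Finite G]

omit [Finite G] in
theorem mem_sylow_of_normal {r : ℕ} [Fact r.Prime] {R : Subgroup G}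
    (hR : ∀ P : Sylow r G, (P : Subgroup G) = R) {X : Subgroup G} (hX : IsPGroup r X) : X ≤ R := by
  obtain ⟨P, hP⟩ := hX.exists_le_sylow
  exact hR P ▸ hP

omit [Finite G] in
theorem mem_sylow_of_order {r : ℕ} [Fact r.Prime] {R : Subgroup G}
    (hR : ∀ P : Sylow r G, (P : Subgroup G) = R) {x : G} (hx : orderOf x = r) : x ∈ R :=
  mem_sylow_of_normal hR (IsPGroup.of_card (n := 1) (by rw [Nat.card_zpowers, hx, pow_one]))
    (Subgroup.mem_zpowers x)

/-- The normal abelian Hall subgroup carrying all primes of rank at least two. -/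
theorem exists_big (hsol : Group.IsSolvable G) (hB : AbConj G) :
    ∃ E : Subgroup G, E.Normal ∧ IsMulCommutative ↥E ∧ (Nat.card E).Coprime E.index ∧
      (∀ r : ℕ, ∀ [Fact r.Prime], r ∣ Nat.card E → ∃ R : Subgroup G, R.Normal ∧ R ≤ E ∧
        Cfsg.IsElementaryAbelian r R ∧ ∀ P : Sylow r G, (P : Subgroup G) = R) ∧
      (∀ r : ℕ, ∀ [Fact r.Prime], ¬ r ∣ Nat.card E → RankOne G r) := by
  set S : Set G := {x | ∃ r, r.Prime ∧ orderOf x = r ∧ ¬ RankOne G r} with hS
  set E := Subgroup.closure S
  have hn : E.Normal := by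
    have hSS : ∀ x ∈ S, ∀ g : G, g * x * g⁻¹ ∈ S := by
      rintro x ⟨r, hr, hx, hne⟩ g
      exact ⟨r, hr, by rw [show g * x * g⁻¹ = MulAut.conj g x from rfl, MulEquiv.orderOf_eq, hx], hne⟩
    refine ⟨fun x hx g => ?_⟩
    have h := Subgroup.mem_map_of_mem (MulAut.conj g).toMonoidHom hx
    rw [MonoidHom.map_closure] at h
    refine Subgroup.closure_mono ?_ h
    rintro _ ⟨y, hy, rfl⟩
    exact hSS y hy g
  have hcommS : ∀ x ∈ S, ∀ y ∈ S, Commute x y := by
    rintro x ⟨r, hr, hx, hne⟩ y ⟨s, hs, hy, hne'⟩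
    haveI := Fact.mk hr
    haveI := Fact.mk hs
    obtain ⟨R, hRn, hRe, hR⟩ := dichotomy hsol hB hne
    by_cases hrs : r = s
    · subst hrs
      exact mem_of_comm hRe.1 (mem_sylow_of_order hR hx) (mem_sylow_of_order hR hy)
    obtain ⟨R', hRn', hRe', hR'⟩ := dichotomy hsol hB hne'
    refine Subgroup.commute_of_normal_of_disjoint R R' hRn hRn' ?_ x y
      (mem_sylow_of_order hR hx) (mem_sylow_of_order hR' hy)
    rw [Subgroup.disjoint_def]
    intro z hz hz'
    exact eq_one_of_pow_coprime ((Nat.coprime_primes hr hs).mpr hrs) (hRe.2 z hz) (hRe'.2 z hz')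
  have hEc : IsMulCommutative ↥E := Subgroup.isMulCommutative_closure fun x hx y hy => (hcommS x hx y hy).eq
  have hprime : ∀ x ∈ E, ∀ q : ℕ, q.Prime → q ∣ orderOf x → ¬ RankOne G q := by
    intro x hx
    induction hx using Subgroup.closure_induction with
    | mem y hy =>
      obtain ⟨r, hr, hy', hne⟩ := hy
      intro q hq hd
      rw [hy'] at hd
      rwa [(Nat.prime_dvd_prime_iff_eq hq hr).mp hd]
    | one =>
      intro q hq hd
      rw [orderOf_one] at hd
      exact absurd hd hq.not_dvd_one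
    | mul y z hy hz ihy ihz =>
      intro q hq hd
      have hc : Commute y z := mem_of_comm hEc hy hz
      rcases hq.dvd_mul.mp (hd.trans hc.orderOf_mul_dvd_mul_orderOf) with h | h
      · exact ihy q hq h
      · exact ihz q hq h
    | inv y hy ih =>
      intro q hq hd
      rw [orderOf_inv] at hd
      exact ih q hq hd
  have hbig : ∀ r : ℕ, ∀ [Fact r.Prime], ¬ RankOne G r →
      ∃ R : Subgroup G, R.Normal ∧ R ≤ E ∧ Cfsg.IsElementaryAbelian r R ∧
        ∀ P : Sylow r G, (P : Subgroup G) = R := by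
    intro r hr hne
    obtain ⟨R, hRn, hRe, hR⟩ := dichotomy hsol hB hne
    refine ⟨R, hRn, fun z hz => ?_, hRe, hR⟩
    by_cases hz1 : z = 1
    · rw [hz1]; exact one_mem _
    exact Subgroup.subset_closure ⟨r, hr.out, orderOf_eq_prime (hRe.2 z hz) hz1, hne⟩
  have hdvd : ∀ r : ℕ, ∀ [Fact r.Prime], r ∣ Nat.card E → ¬ RankOne G r := by
    intro r hr hd
    obtain ⟨x, hx⟩ := exists_prime_orderOf_dvd_card' (G := E) r hd
    exact hprime x x.2 r hr.out (by rw [Subgroup.orderOf_coe, hx])
  refine ⟨E, hn, hEc, ?_, fun r _ hd => hbig r (hdvd r hd), fun r hr hd => ?_⟩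
  · refine Nat.coprime_of_dvd fun r hr hd hi => ?_
    haveI := Fact.mk hr
    obtain ⟨R, -, hRE, -, hR⟩ := hbig r (hdvd r hd)
    obtain ⟨P⟩ : Nonempty (Sylow r G) := inferInstance
    exact P.not_dvd_index (hi.trans (Subgroup.index_dvd_of_le ((hR P).le.trans hRE)))
  · by_contra hne
    obtain ⟨R, -, hRE, hRe, hR⟩ := hbig r hne
    unfold RankOne at hne
    push Not at hne
    obtain ⟨x, -, hx, -, hx1, -⟩ := hne
    have hox := orderOf_eq_prime hx hx1
    apply hd
    rw [← hox]
    exact Subgroup.orderOf_dvd_natCard E (hRE (mem_sylow_of_order hR hox))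

/-- A rank one `r`-group has one subgroup of order `r`. -/
theorem exists_bottom {r : ℕ} [hr : Fact r.Prime] (h : RankOne G r) {P : Subgroup G}
    (hP : IsPGroup r P) (hne : P ≠ ⊥) :
    ∃ z : G, orderOf z = r ∧ ∀ x ∈ P, x ^ r = 1 → x ∈ Subgroup.zpowers z := by
  haveI : Nontrivial P := (Subgroup.nontrivial_iff_ne_bot P).mpr hne
  haveI := hP.center_nontrivial
  obtain ⟨k, hk⟩ := IsPGroup.iff_card.mp (hP.to_subgroup (Subgroup.center P))
  have hk0 : k ≠ 0 := by
    intro h0
    have := Finite.one_lt_card (α := Subgroup.center P)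
    rw [hk, h0, pow_zero] at this
    omega
  obtain ⟨w, hw⟩ := exists_prime_orderOf_dvd_card' (G := Subgroup.center P) r
    (hk ▸ dvd_pow_self r hk0)
  have hz : orderOf ((w : P) : G) = r := by rw [Subgroup.orderOf_coe, Subgroup.orderOf_coe, hw]
  refine ⟨((w : P) : G), hz, fun x hx hxr => ?_⟩
  refine h _ x (by rw [← hz]; exact pow_orderOf_eq_one _) hxr ?_ ?_
  · intro e; rw [e, orderOf_one] at hz; exact hr.out.ne_one hz.symm
  · exact (congrArg Subtype.val (Subgroup.mem_center_iff.mp w.2 ⟨x, hx⟩) :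
      x * ((w : P) : G) = ((w : P) : G) * x).symm

theorem cyclic_of_rankOne {r : ℕ} [hr : Fact r.Prime] (hr2 : r ≠ 2) (h : RankOne G r)
    {P : Subgroup G} (hP : IsPGroup r P) : IsCyclic P := by
  by_cases hne : P = ⊥
  · subst hne; exact isCyclic_of_subsingleton
  obtain ⟨z, hz, hall⟩ := exists_bottom h hP hne
  refine CfsgLib.ZStar.cyclic_of_unique_subgroup hr2 hP fun H K hH hK => ?_
  have key : ∀ H : Subgroup P, Nat.card H = r → H.map P.subtype = Subgroup.zpowers z := by
    intro H hH
    refine Subgroup.eq_of_le_of_card_ge ?_ (by rw [Nat.card_zpowers, hz, Subgroup.card_subtype, hH])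
    rintro _ ⟨x, hx, rfl⟩
    refine hall _ x.2 ?_
    have h1 := pow_card_eq_one' (x := (⟨x, hx⟩ : H))
    rw [hH] at h1
    exact congrArg (fun w : H => ((w : P) : G)) h1
  exact Subgroup.map_injective P.subtype_injective ((key H hH).trans (key K hK).symm)

theorem sylow_two (hsol : Group.IsSolvable G) (hB : AbConj G) (h : RankOne G 2) (P : Sylow 2 G) :
    IsCyclic (P : Subgroup G) ∨ ∃ f : QuaternionGroup 2 →* G, Function.Injective f ∧
      (P : Subgroup G) = f.range := by
  haveI := Fact.mk Nat.prime_two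
  by_cases hne : (P : Subgroup G) = ⊥
  · left; rw [hne]; exact isCyclic_of_subsingleton
  obtain ⟨z, hz, hall⟩ := exists_bottom h P.2 hne
  have huniq : ∀ x y : (P : Subgroup G), orderOf x = 2 → orderOf y = 2 → x = y := by
    have key : ∀ x : (P : Subgroup G), orderOf x = 2 → (x : G) = z := by
      intro x hx
      obtain ⟨e, he⟩ := hall x x.2 (orderOf_dvd_iff_pow_eq_one.mp (by rw [Subgroup.orderOf_coe, hx]))
      have he' : z ^ e = (x : G) := he
      rcases Int.emod_two_eq_zero_or_one e with h0 | h0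
      · exfalso
        rw [← zpow_mod_orderOf, hz, Nat.cast_ofNat, h0, zpow_zero] at he'
        rw [← Subgroup.orderOf_coe, ← he', orderOf_one] at hx
        omega
      · rw [← he', ← zpow_mod_orderOf, hz, Nat.cast_ofNat, h0, zpow_one]
    exact fun x y hx hy => Subtype.ext ((key x hx).trans (key y hy).symm)
  rcases CfsgLib.ZStar.cyclic_or_quaternion P.2 huniq with hc | ⟨n, ⟨e⟩⟩
  · exact Or.inl hc
  match n, e with
  | 0, e =>
    exact Or.inl (isCyclic_of_orderOf_eq_card (e.symm (QuaternionGroup.xa 0 : QuaternionGroup (2 ^ 0)))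
      (by rw [MulEquiv.orderOf_eq, QuaternionGroup.orderOf_xa, Nat.card_congr e.toEquiv,
        Nat.card_eq_fintype_card, QuaternionGroup.card, pow_zero, mul_one]))
  | 1, e =>
    refine Or.inr ⟨(P : Subgroup G).subtype.comp (e.symm : QuaternionGroup 2 ≃* _).toMonoidHom,
      Subtype.val_injective.comp e.symm.injective, ?_⟩
    rw [MonoidHom.range_comp, MonoidHom.range_eq_top.mpr e.symm.surjective, ← MonoidHom.range_eq_map,
      Subgroup.range_subtype]
  | n + 2, e =>
    exact (Cfsg.Agent.S3912.no_large_quaternion hsol hB (m := 2 ^ (n + 2))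
      ⟨2 ^ n, by rw [pow_add]; ring⟩ e.symm).elim

/-- An element normalising all subgroups of one intermediate order fixes every cyclic subgroup. -/
theorem line_of_subgroups {N : Subgroup G} (hNc : IsMulCommutative ↥N) {p : ℕ} [hp : Fact p.Prime]
    (hexp : ∀ x ∈ N, x ^ p = 1) {t s : ℕ} (hN : Nat.card N = p ^ t) (hs : 1 ≤ s) (hst : s < t)
    {x : G} (hNx : ∀ v ∈ N, x * v * x⁻¹ ∈ N)
    (hinv : ∀ V ≤ N, Nat.card V = p ^ s → ∀ v ∈ V, x * v * x⁻¹ ∈ V) :
    ∀ v ∈ N, x * v * x⁻¹ ∈ Subgroup.zpowers v := by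
  intro v hv
  by_cases hv1 : v = 1
  · simp [hv1]
  by_contra hw
  set w := x * v * x⁻¹
  have hwN : w ∈ N := hNx v hv
  have step : ∀ e, 1 ≤ e → e ≤ s → ∃ X ≤ N, Nat.card X = p ^ e ∧ v ∈ X ∧ w ∉ X := by
    intro e he
    induction e, he using Nat.le_induction with
    | base =>
      intro _
      exact ⟨_, Subgroup.zpowers_le.mpr hv, by
        rw [Nat.card_zpowers, orderOf_eq_prime (hexp v hv) hv1, pow_one], Subgroup.mem_zpowers v, hw⟩
    | succ e he ih =>
      intro hle
      obtain ⟨X, hXN, hXc, hvX, hwX⟩ := ih (by omega)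
      have hcard : ∀ (Y : Subgroup G), Y ≤ N → ∀ u ∈ N, u ∉ Y →
          Nat.card ↥(Y ⊔ Subgroup.zpowers u) = Nat.card Y * p := by
        intro Y hY u hu huY
        have hnorm : Subgroup.zpowers u ≤ Subgroup.normalizer (Y : Set G) := by
          rw [Subgroup.zpowers_le, Subgroup.mem_normalizer_iff]
          intro h
          by_cases hh : h ∈ N
          · rw [mem_of_comm hNc hu hh, mul_inv_cancel_right]
          · refine iff_of_false (fun h' => hh (hY h')) fun h' => hh ?_
            have h2 := mul_mem (mul_mem (inv_mem hu) (hY h')) hu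
            simpa [mul_assoc] using h2
        rw [sup_comm]
        have hdis : Subgroup.zpowers u ⊓ Y = ⊥ := by
          rw [eq_bot_iff]
          intro a ha
          by_contra ha1
          apply huY
          obtain ⟨i, rfl⟩ := ha.1
          have ho : orderOf (u ^ i) = p :=
            orderOf_eq_prime (hexp _ (zpow_mem hu i)) (by simpa using ha1)
          have hou : orderOf u = p := orderOf_eq_prime (hexp u hu) (fun h => huY (h ▸ one_mem _))
          have : Subgroup.zpowers (u ^ i) = Subgroup.zpowers u := Subgroup.eq_of_le_of_card_ge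
            (Subgroup.zpowers_le.mpr ⟨i, rfl⟩) (by rw [Nat.card_zpowers, Nat.card_zpowers, ho, hou])
          exact Subgroup.zpowers_le.mpr ha.2 (this ▸ Subgroup.mem_zpowers u)
        have h := CfsgLib.Coprime.card_sup_mul_card_inf (S := Subgroup.zpowers u) (K := Y) hnorm
        rw [sup_comm Y, inf_comm Y, hdis, Subgroup.card_bot, mul_one, Nat.card_zpowers,
          orderOf_eq_prime (hexp u hu) (fun h => huY (h ▸ one_mem _))] at h
        exact h
      have hXw := hcard X hXN w hwN hwX
      obtain ⟨u, hu, huXw⟩ : ∃ u ∈ N, u ∉ X ⊔ Subgroup.zpowers w := by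
        by_contra hno
        push Not at hno
        have h1 := Subgroup.card_le_of_le hno
        rw [hN, hXw, hXc, ← pow_succ] at h1
        have := (Nat.pow_le_pow_iff_right hp.out.one_lt).mp h1
        omega
      have huX : u ∉ X := fun h => huXw (Subgroup.mem_sup_left h)
      refine ⟨X ⊔ Subgroup.zpowers u, sup_le hXN (Subgroup.zpowers_le.mpr hu), ?_,
        Subgroup.mem_sup_left hvX, fun hwm => ?_⟩
      · rw [hcard X hXN u hu huX, hXc, pow_succ]
      · have hle : X ⊔ Subgroup.zpowers w ≤ X ⊔ Subgroup.zpowers u :=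
          sup_le le_sup_left (Subgroup.zpowers_le.mpr hwm)
        have heq := Subgroup.eq_of_le_of_card_ge hle (by rw [hXw, hcard X hXN u hu huX])
        exact huXw (heq ▸ Subgroup.mem_sup_right (Subgroup.mem_zpowers u))
  obtain ⟨X, hXN, hXc, hvX, hwX⟩ := step s hs le_rfl
  exact hwX (hinv X hXN hXc v hvX)

/-- The element fusing two cyclic subgroups of order four inside the normaliser of `U`. -/
theorem fusion (hB : AbConj G) {E U : Subgroup G} [E.Normal] (hEc : IsMulCommutative ↥E)
    (hbig : ∀ r : ℕ, ∀ [Fact r.Prime], r ∣ Nat.card E → ∃ R : Subgroup G, R.Normal ∧ R ≤ E ∧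
      Cfsg.IsElementaryAbelian r R ∧ ∀ P : Sylow r G, (P : Subgroup G) = R)
    (hodd : Odd (Nat.card E)) (hU : U ≤ E) {f : QuaternionGroup 2 →* G} (hf : Function.Injective f)
    (hL : ∀ x : G, x ^ 8 = 1 → x ∈ Subgroup.normalizer (U : Set G))
    {x y : G} (hx : orderOf x = 4) (hy : orderOf y = 4) :
    ∃ g ∈ Subgroup.normalizer (U : Set G),
      Subgroup.zpowers y = (Subgroup.zpowers x).map (MulAut.conj g).toMonoidHom := by
  set T : Set G := {u | orderOf u = 4}
  set W : Subgroup G := U ⊓ Subgroup.centralizer T with hW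
  have hab : ∀ v : G, orderOf v = 4 → IsMulCommutative ↥(W ⊔ Subgroup.zpowers v) ∧
      Nat.card ↥(W ⊔ Subgroup.zpowers v) = Nat.card W * 4 ∧
      (W ⊔ Subgroup.zpowers v) ⊓ E = W := by
    intro v hv
    have hWv : ∀ w ∈ W, Commute w v := fun w hw =>
      (Subgroup.mem_centralizer_iff.mp hw.2 v hv).symm
    have hnorm : W ≤ Subgroup.normalizer (Subgroup.zpowers v : Set G) := by
      intro w hw
      rw [Subgroup.mem_normalizer_iff]
      intro h
      constructor
      · rintro ⟨i, rfl⟩
        exact ⟨i, by rw [((hWv w hw).zpow_right i).eq, mul_inv_cancel_right]⟩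
      · rintro ⟨i, hi⟩
        refine ⟨i, ?_⟩
        have hi' : v ^ i = w * h * w⁻¹ := hi
        show v ^ i = h
        have := ((hWv w hw).zpow_right i).inv_left.eq
        calc v ^ i = w⁻¹ * v ^ i * w := by rw [this, inv_mul_cancel_right]
          _ = h := by rw [hi']; group
    have hvE : ∀ a ∈ Subgroup.zpowers v, a ∈ E → a = 1 := by
      intro a ha haE
      refine eq_one_of_pow_coprime (a := 4) (b := Nat.card E) ?_ ?_ ?_
      · exact Nat.Coprime.pow_left 2 (Nat.prime_two.coprime_iff_not_dvd.mpr fun h => by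
          rw [Nat.odd_iff] at hodd; omega)
      · obtain ⟨i, rfl⟩ := ha
        rw [← zpow_natCast, ← zpow_mul, mul_comm, zpow_mul, zpow_natCast, ← hv, pow_orderOf_eq_one,
          one_zpow]
      · exact congrArg Subtype.val (pow_card_eq_one' (x := (⟨a, haE⟩ : E)))
    refine ⟨?_, ?_, ?_⟩
    · rw [Subgroup.sup_eq_closure]
      refine Subgroup.isMulCommutative_closure fun a ha b hb => ?_
      rcases ha with ha | ha <;> rcases hb with hb | hb
      · exact mem_of_comm hEc (hU ha.1) (hU hb.1)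
      · obtain ⟨i, rfl⟩ := hb; exact ((hWv a ha).zpow_right i).eq
      · obtain ⟨i, rfl⟩ := ha; exact ((hWv b hb).zpow_right i).eq.symm
      · exact mem_of_comm (Cfsg.Agent.S3912.zpowers_comm v) ha hb
    · have h := CfsgLib.Coprime.card_sup_mul_card_inf (S := W) (K := Subgroup.zpowers v) hnorm
      have hd : Subgroup.zpowers v ⊓ W = ⊥ := by
        rw [eq_bot_iff]; intro a ha; exact hvE a ha.1 (hU ha.2.1)
      rw [sup_comm _ W, hd, Subgroup.card_bot, mul_one, Nat.card_zpowers, hv, mul_comm] at h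
      exact h
    · refine le_antisymm (fun a ha => ?_) (le_inf le_sup_left (inf_le_left.trans hU))
      obtain ⟨ha, haE⟩ := ha
      replace ha : a ∈ ((W ⊔ Subgroup.zpowers v : Subgroup G) : Set G) := ha
      rw [Subgroup.coe_mul_of_left_le_normalizer_right _ _ hnorm] at ha
      obtain ⟨w, hw, b, hb, rfl⟩ := ha
      have hbE : b ∈ E := by
        have h2 := mul_mem (inv_mem (hU hw.1)) haE
        simpa using h2
      show w * b ∈ W
      rw [hvE b hb hbE, mul_one]
      exact hw
  obtain ⟨hxc, hxn, hxE⟩ := hab x hx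
  obtain ⟨hyc, hyn, hyE⟩ := hab y hy
  obtain ⟨g, hg⟩ := hB _ _ hxc hyc (by rw [hxn, hyn])
  set c := (MulAut.conj g).toMonoidHom
  have hgW : W = W.map c := by
    conv_lhs => rw [← hyE, hg]
    conv_rhs => rw [← hxE, Subgroup.map_inf _ E c (MulAut.conj g).injective]
    congr 1
    exact (Subgroup.Normal.map_conj_eq (H := E) g).symm
  refine ⟨g, ?_, ?_⟩
  · refine Subgroup.mem_normalizer_fintype fun u hu => ?_
    set S : Subgroup G := U ⊓ U.comap c
    have hSU : S = U := by
      refine Subgroup.eq_of_le_of_card_ge inf_le_left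
        (Nat.le_of_dvd Nat.card_pos ((Nat.dvd_iff_prime_pow_dvd_dvd _ _).mpr fun p k hp hpk => ?_))
      haveI := Fact.mk hp
      rcases Nat.eq_zero_or_pos k with rfl | hk
      · simp
      have hpE : p ∣ Nat.card E :=
        (dvd_pow_self p (by omega)).trans (hpk.trans (Subgroup.card_dvd_of_le hU))
      obtain ⟨R, hRn, hRE, hRe, hR⟩ := hbig p hpE
      obtain ⟨P⟩ : Nonempty (Sylow p G) := inferInstance
      have hRi : ¬ p ∣ R.index := by rw [← hR P]; exact P.not_dvd_index
      have hpUR : p ^ k ∣ Nat.card ↥(U ⊓ R) := by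
        have h := card_inf_mul (M := R) (A := U)
        rw [← h] at hpk
        refine Nat.Coprime.dvd_of_dvd_mul_right (Nat.Coprime.pow_left k ?_) hpk
        exact hp.coprime_iff_not_dvd.mpr fun hd => hRi (hd.trans (Subgroup.relIndex_dvd_index_of_normal _ _))
      have hRp : IsPGroup p R := fun z => ⟨1, Subtype.ext (by simpa using hRe.2 z z.2)⟩
      obtain ⟨tR, htR⟩ := IsPGroup.iff_card.mp hRp
      obtain ⟨sU, hsU⟩ := IsPGroup.iff_card.mp (hRp.to_le (inf_le_right : U ⊓ R ≤ R))
      have hsU1 : 1 ≤ sU := by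
        by_contra h0
        rw [hsU, show sU = 0 by omega, pow_zero] at hpUR
        exact hp.not_dvd_one ((dvd_pow_self p (by omega)).trans hpUR)
      refine hpUR.trans (Subgroup.card_dvd_of_le fun z hz => ⟨hz.1, ?_⟩)
      show c z ∈ U
      by_cases hfull : sU = tR
      · have he : U ⊓ R = R := Subgroup.eq_of_le_of_card_ge inf_le_right (by rw [hsU, htR, hfull])
        have h : c z ∈ U ⊓ R := by rw [he]; exact hRn.conj_mem z hz.2 g
        exact h.1
      have hlt : sU < tR := by
        have := Subgroup.card_le_of_le (inf_le_right : U ⊓ R ≤ R)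
        rw [hsU, htR, Nat.pow_le_pow_iff_right hp.one_lt] at this
        omega
      have hline : ∀ q : QuaternionGroup 2, ∀ v ∈ R, f q * v * (f q)⁻¹ ∈ Subgroup.zpowers v := by
        intro q
        refine line_of_subgroups hRe.1 hRe.2 htR hsU1 hlt (fun v hv => hRn.conj_mem v hv _)
          fun V hV hVc v hv => ?_
        obtain ⟨a, ha⟩ := hB (U ⊓ R) V
          (comm_of fun b hb d hd => mem_of_comm hEc (hU hb.1) (hU hd.1))
          (comm_of fun b hb d hd => mem_of_comm hRe.1 (hV hb) (hV hd)) (by rw [hsU, hVc])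
        rw [ha] at hv ⊢
        obtain ⟨b, hb, rfl⟩ := hv
        have hm : a⁻¹ * f q * a ∈ Subgroup.normalizer (U : Set G) := hL _ (by
          have e : a⁻¹ * f q * a = a⁻¹ * f q * (a⁻¹)⁻¹ := by group
          rw [e, conj_pow, ← map_pow, quat_pow_eight, map_one]; group)
        refine ⟨a⁻¹ * f q * a * b * (a⁻¹ * f q * a)⁻¹, ⟨(Subgroup.mem_normalizer_iff.mp hm b).mp hb.1,
          hRn.conj_mem b hb.2 _⟩, ?_⟩
        simp only [MulEquiv.coe_toMonoidHom, MulAut.conj_apply]
        group
      have hcen := quat_centralises hB (N := R) hRe.1 hp hRe.2 hf hline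
      have hzW : z ∈ W := ⟨hz.1, Subgroup.mem_centralizer_iff.mpr fun v hv =>
        (Subgroup.mem_centralizer_iff.mp (hcen v hv) z hz.2).symm⟩
      have : c z ∈ W := hgW.ge (Subgroup.mem_map_of_mem c hzW)
      exact this.1
    rw [SetLike.mem_coe, ← hSU] at hu
    exact hu.2
  · refine (Subgroup.eq_of_le_of_card_ge ?_ ?_).symm
    · rintro _ ⟨a, ha, rfl⟩
      have h1 : c a ∈ W ⊔ Subgroup.zpowers y := hg.ge (Subgroup.mem_map_of_mem c (Subgroup.mem_sup_right ha))
      have hnorm : W ≤ Subgroup.normalizer (Subgroup.zpowers y : Set G) := fun w hw => by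
        rw [Subgroup.mem_normalizer_iff]
        intro h
        have hcm : ∀ b ∈ Subgroup.zpowers y, w * b * w⁻¹ = b := fun b hb => by
          rw [mem_of_comm hyc (Subgroup.mem_sup_left hw) (Subgroup.mem_sup_right hb), mul_inv_cancel_right]
        constructor
        · intro hh; rwa [hcm h hh]
        · intro hh
          have h3 := hcm _ hh
          have : w * h * w⁻¹ = h := by
            calc w * h * w⁻¹ = w⁻¹ * (w * (w * h * w⁻¹) * w⁻¹) * w := by group
              _ = h := by rw [h3]; group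
          rwa [this] at hh
      rw [← SetLike.mem_coe, Subgroup.coe_mul_of_left_le_normalizer_right _ _ hnorm] at h1
      obtain ⟨w, hw, b, hb, hwb⟩ := h1
      have hwb' : w * b = c a := hwb
      have h4 : (c a) ^ 4 = 1 := by
        obtain ⟨i, rfl⟩ := ha
        rw [← map_pow, ← zpow_natCast, ← zpow_mul, mul_comm, zpow_mul, zpow_natCast, ← hx,
          pow_orderOf_eq_one, one_zpow, map_one]
      have hcm : Commute w b := mem_of_comm hyc (Subgroup.mem_sup_left hw) (Subgroup.mem_sup_right hb)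
      have hb4 : b ^ 4 = 1 := by
        obtain ⟨i, rfl⟩ := hb
        rw [← zpow_natCast, ← zpow_mul, mul_comm, zpow_mul, zpow_natCast, ← hy, pow_orderOf_eq_one,
          one_zpow]
      rw [← hwb', hcm.mul_pow, hb4, mul_one] at h4
      have hw1 : w = 1 := eq_one_of_pow_coprime (a := 4) (b := Nat.card E)
        (Nat.Coprime.pow_left 2 (Nat.prime_two.coprime_iff_not_dvd.mpr fun h => by
          rw [Nat.odd_iff] at hodd; omega)) h4
        (congrArg Subtype.val (pow_card_eq_one' (x := (⟨w, hU hw.1⟩ : E))))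
      rw [← hwb', hw1, one_mul]
      exact hb
    · rw [Subgroup.card_map_of_injective (MulAut.conj g).injective, Nat.card_zpowers, Nat.card_zpowers,
        hx, hy]

theorem main (hsol : Group.IsSolvable G) (hB : AbConj G) : SameConj G := by
  haveI := hsol
  haveI := Fact.mk Nat.prime_two
  obtain ⟨E, hEn, hEc, hco, hbig, hone⟩ := exists_big hsol hB
  haveI := hEn
  have hEs : Group.IsSolvable ↥E :=
    Group.isSolvable_of_isSolvable_injective (Subgroup.subtype_injective E)
  refine reduce E hEs hco (fun U V hU hV h => hB U V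
    (comm_of fun a ha b hb => mem_of_comm hEc (hU ha) (hU hb))
    (comm_of fun a ha b hb => mem_of_comm hEc (hV ha) (hV hb)) h) fun U hU => ?_
  set π := QuotientGroup.mk' E
  have hsurj : Function.Surjective π := QuotientGroup.mk'_surjective E
  have hker : ∀ z, π z = 1 → z ∈ E := fun z hz => (QuotientGroup.eq_one_iff z).mp hz
  have hdead : ∀ r : ℕ, ∀ [Fact r.Prime], r ∣ Nat.card E → ∀ S : Sylow r (G ⧸ E), IsCyclic S := by
    intro r hr hd S
    obtain ⟨S', rfl⟩ := Sylow.mapSurjective_surjective hsurj r S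
    obtain ⟨R, -, hRE, -, hR⟩ := hbig r hd
    have : ((S'.mapSurjective hsurj : Sylow r (G ⧸ E)) : Subgroup (G ⧸ E)) = ⊥ := by
      show (S' : Subgroup G).map π = ⊥
      rw [Subgroup.map_eq_bot_iff, QuotientGroup.ker_mk', hR S']
      exact hRE
    rw [this]; exact isCyclic_of_subsingleton
  have himg : ∀ {r : ℕ} [Fact r.Prime] (S' : Sylow r G), IsCyclic (S' : Subgroup G) →
      IsCyclic ((S'.mapSurjective hsurj : Sylow r (G ⧸ E)) : Subgroup (G ⧸ E)) := fun S' h =>
    isCyclic_of_surjective (π.subgroupMap (S' : Subgroup G)) (MonoidHom.subgroupMap_surjective _ _)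
  have hoddH : ∀ r : ℕ, ∀ [Fact r.Prime], r ≠ 2 → ∀ S : Sylow r (G ⧸ E), IsCyclic S := by
    intro r hr hr2 S
    by_cases hd : r ∣ Nat.card E
    · exact hdead r hd S
    obtain ⟨S', rfl⟩ := Sylow.mapSurjective_surjective hsurj r S
    exact himg S' (cyclic_of_rankOne hr2 (hone r hd) S'.2)
  by_cases hz : ∀ S : Sylow 2 (G ⧸ E), IsCyclic S
  · haveI : IsZGroup (G ⧸ E) := ⟨fun r hr S => by
      haveI := Fact.mk hr
      by_cases hr2 : r = 2
      · subst hr2; exact hz S
      · exact hoddH r hr2 S⟩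
    exact sameIn_zgroup _
  have h2E : ¬ 2 ∣ Nat.card E := fun h => hz (hdead 2 h)
  have hEodd : Odd (Nat.card E) := Nat.odd_iff.mpr (by omega)
  push Not at hz
  obtain ⟨S, hS⟩ := hz
  obtain ⟨P, rfl⟩ := Sylow.mapSurjective_surjective hsurj 2 S
  rcases sylow_two hsol hB (hone 2 h2E) P with hc | ⟨f, hf, hP⟩
  · exact absurd (himg P hc) hS
  have hfb : Function.Injective (π.comp f) := by
    rw [injective_iff_map_eq_one]
    intro q hq
    refine hf ?_
    rw [map_one]
    refine eq_one_of_pow_coprime (a := 8) (b := Nat.card E) ?_ ?_ ?_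
    · exact Nat.Coprime.pow_left 3 (Nat.prime_two.coprime_iff_not_dvd.mpr h2E)
    · rw [← map_pow, quat_pow_eight, map_one]
    · exact congrArg Subtype.val (pow_card_eq_one' (x := (⟨f q, hker _ hq⟩ : E)))
  set Q := (π.comp f).range with hQ
  have hQS : ((P.mapSurjective hsurj : Sylow 2 (G ⧸ E)) : Subgroup (G ⧸ E)) = Q := by
    rw [hQ, MonoidHom.range_comp, ← hP]; rfl
  have hBH : AbConj (G ⧸ E) := Cfsg.Agent.S3912.result hB hsol E
  have hQn : Q.Normal := quat_normal inferInstance hBH hoddH hfb _ hQS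
  have hQall : ∀ X : Subgroup (G ⧸ E), IsPGroup 2 X → X ≤ Q := by
    intro X hX
    haveI := hQn
    have hQp : IsPGroup 2 Q := hQS ▸ (P.mapSurjective hsurj).2
    have h := (P.mapSurjective hsurj).3 (hX.to_sup_of_normal_right hQp) (by rw [hQS]; exact le_sup_right)
    rw [← hQS]
    exact le_sup_left.trans (by rw [hQS] at h ⊢; exact h.le)
  set L := Subgroup.normalizer (U : Set G)
  set D := L.map π
  have hEL : E ≤ L := fun e he => Subgroup.mem_normalizer_fintype fun n hn => by
    rw [mem_of_comm hEc he (hU hn), mul_inv_cancel_right]; exact hn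
  by_cases hQD : Q ≤ D
  swap
  · haveI : IsZGroup ↥D := ⟨fun r hr T => by
      haveI := Fact.mk hr
      haveI : IsCyclic ((T : Subgroup D).map D.subtype) := by
        by_cases hr2 : r = 2
        · subst hr2
          refine sub_cyclic hfb (hQall _ (T.2.map _)) fun he => hQD ?_
          rw [← hQ] at he
          exact he ▸ Subgroup.map_subtype_le _
        · obtain ⟨S', hS'⟩ := (T.2.map D.subtype).exists_le_sylow
          haveI := hoddH r hr2 S'
          exact isCyclic_of_injective (Subgroup.inclusion hS') (Subgroup.inclusion_injective hS')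
      exact isCyclic_of_surjective ((T : Subgroup D).equivMapOfInjective _
        D.subtype_injective).symm.toMonoidHom (MulEquiv.surjective _)⟩
    exact sameIn_zgroup D
  refine sameIn_of_sameConj D ?_
  haveI := hQn
  set M := Q.subgroupOf D
  have hMn : M.Normal := inferInstance
  have hMc : Nat.card M = 8 := by
    rw [Nat.card_congr (Subgroup.subgroupOfEquivOfLe hQD).toEquiv, range_card hfb]
  have hMp : IsPGroup 2 M := IsPGroup.of_card (n := 3) (by rw [hMc]; norm_num)
  have hTM : ∀ T : Sylow 2 D, (T : Subgroup D) ≤ M := fun T d hd => by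
    rw [Subgroup.mem_subgroupOf]
    exact hQall _ (T.2.map D.subtype) (Subgroup.mem_map_of_mem _ hd)
  have hMco : (Nat.card M).Coprime M.index := by
    obtain ⟨T⟩ : Nonempty (Sylow 2 D) := inferInstance
    have h := Nat.prime_two.coprime_iff_not_dvd.mpr T.not_dvd_index
    rw [hMc]
    exact (Nat.Coprime.pow_left 3 h).coprime_dvd_right (Subgroup.index_dvd_of_le (hTM T))
  haveI : IsZGroup (↥D ⧸ M) := ⟨fun r hr T => by
    haveI := Fact.mk hr
    obtain ⟨T', rfl⟩ := Sylow.mapSurjective_surjective (QuotientGroup.mk'_surjective M) r T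
    by_cases hr2 : r = 2
    · subst hr2
      have : ((T'.mapSurjective (QuotientGroup.mk'_surjective M) : Sylow 2 (↥D ⧸ M)) :
          Subgroup (↥D ⧸ M)) = ⊥ := by
        show (T' : Subgroup D).map (QuotientGroup.mk' M) = ⊥
        rw [Subgroup.map_eq_bot_iff, QuotientGroup.ker_mk']
        exact hTM T'
      rw [this]; exact isCyclic_of_subsingleton
    · obtain ⟨S', hS'⟩ := (T'.2.map D.subtype).exists_le_sylow
      haveI := hoddH r hr2 S'
      haveI : IsCyclic ((T' : Subgroup D).map D.subtype) :=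
        isCyclic_of_injective (Subgroup.inclusion hS') (Subgroup.inclusion_injective hS')
      haveI : IsCyclic (T' : Subgroup D) := isCyclic_of_surjective ((T' : Subgroup D).equivMapOfInjective _
        D.subtype_injective).symm.toMonoidHom (MulEquiv.surjective _)
      exact isCyclic_of_surjective ((QuotientGroup.mk' M).subgroupMap (T' : Subgroup D))
        (MonoidHom.subgroupMap_surjective _ _)⟩
  refine reduce M (Group.isSolvable_of_isSolvable_injective
    (f := D.subtype.comp M.subtype) (D.subtype_injective.comp M.subtype_injective)) hMco ?_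
    (fun _ _ => sameIn_zgroup _)
  -- subgroups of the quaternion group fused in `D`
  have hL8 : ∀ x : G, x ^ 8 = 1 → x ∈ L := by
    intro x hx
    have hp2 : IsPGroup 2 (Subgroup.zpowers (π x)) := by
      intro w
      obtain ⟨i, hi⟩ := w.2
      refine ⟨3, Subtype.ext ?_⟩
      have hi' : π x ^ i = (w : G ⧸ E) := hi
      rw [Subgroup.coe_pow, ← hi', Subgroup.coe_one, ← zpow_natCast, ← zpow_mul, mul_comm, zpow_mul,
        zpow_natCast, ← map_pow, show (2 : ℕ) ^ 3 = 8 by norm_num, hx, map_one, one_zpow]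
    have h1 : π x ∈ D := hQD (hQall _ hp2 (Subgroup.mem_zpowers _))
    obtain ⟨y, hy, hxy⟩ := h1
    have : y⁻¹ * x ∈ E := hker _ (by rw [map_mul, map_inv, hxy, inv_mul_cancel])
    simpa using mul_mem hy (hEL this)
  intro A B hA hB' hcard
  have hpg : ∀ X : Subgroup D, X ≤ M → X.map D.subtype ≤ Q := fun X hX => by
    rintro _ ⟨d, hd, rfl⟩; exact hX hd
  have hfin : ∀ {A B : Subgroup D}, A = B → ∃ g : D, B = A.map (MulAut.conj g).toMonoidHom :=
    fun h => ⟨1, by rw [h]; ext z; simp⟩
  by_cases h8 : A = M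
  · have : B = M := Subgroup.eq_of_le_of_card_ge hB' (by rw [← hcard, h8])
    exact hfin (h8.trans this.symm)
  have hBne : B ≠ M := fun h => h8 (Subgroup.eq_of_le_of_card_ge hA (by rw [hcard, h]))
  have hcyc : ∀ X : Subgroup D, X ≤ M → X ≠ M → IsCyclic (X.map D.subtype) := fun X hX hne => by
    refine sub_cyclic hfb (hpg X hX) fun he => hne (Subgroup.eq_of_le_of_card_ge hX ?_)
    rw [hMc, ← Subgroup.card_subtype D X, he, range_card hfb]
  haveI hAc := hcyc A hA h8
  haveI hBc := hcyc B hB' hBne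
  obtain ⟨a, ha⟩ := IsCyclic.exists_generator (α := ↥(A.map D.subtype))
  obtain ⟨b, hb⟩ := IsCyclic.exists_generator (α := ↥(B.map D.subtype))
  have hgen : ∀ {X : Subgroup D} (a : ↥(X.map D.subtype)), (∀ w, w ∈ Subgroup.zpowers a) →
      X.map D.subtype = Subgroup.zpowers (a : G ⧸ E) ∧ orderOf (a : G ⧸ E) = Nat.card X := by
    intro X a ha
    refine ⟨le_antisymm (fun w hw => ?_) (Subgroup.zpowers_le.mpr a.2), ?_⟩
    · obtain ⟨i, hi⟩ := ha ⟨w, hw⟩
      exact ⟨i, congrArg Subtype.val hi⟩
    · rw [Subgroup.orderOf_coe, orderOf_eq_card_of_forall_mem_zpowers ha, Subgroup.card_subtype]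
  obtain ⟨hA1, hA2⟩ := hgen a ha
  obtain ⟨hB1, hB2⟩ := hgen b hb
  have hbQ : ((b : G ⧸ E)) ∈ Q := hpg B hB' b.2
  by_cases h4 : Nat.card A = 4
  · have hlift : ∀ w : G ⧸ E, orderOf w = 4 →
        ∃ x : G, orderOf x = 4 ∧ Subgroup.zpowers (π x) = Subgroup.zpowers w := by
      intro w hw
      obtain ⟨y, rfl⟩ := hsurj w
      have hco4 : (4 : ℕ).Coprime (Nat.card E) :=
        Nat.Coprime.pow_left 2 (Nat.prime_two.coprime_iff_not_dvd.mpr h2E)
      have ho : orderOf (π (y ^ Nat.card E)) = 4 := by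
        rw [map_pow, Nat.Coprime.orderOf_pow (by rw [hw]; exact hco4), hw]
      refine ⟨y ^ Nat.card E, Nat.dvd_antisymm (orderOf_dvd_of_pow_eq_one ?_)
        (ho ▸ orderOf_map_dvd π _), ?_⟩
      · have h1 : y ^ 4 ∈ E := hker _ (by rw [map_pow, ← hw, pow_orderOf_eq_one])
        rw [← pow_mul, mul_comm, pow_mul]
        exact congrArg Subtype.val (pow_card_eq_one' (x := (⟨y ^ 4, h1⟩ : E)))
      · refine Subgroup.eq_of_le_of_card_ge (Subgroup.zpowers_le.mpr ?_) ?_
        · rw [map_pow]; exact pow_mem (Subgroup.mem_zpowers _) _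
        · rw [Nat.card_zpowers, Nat.card_zpowers, ho, hw]
    obtain ⟨x, hx, hxA⟩ := hlift _ (hA2.trans h4)
    obtain ⟨y, hy, hyB⟩ := hlift _ (hB2.trans (hcard ▸ h4))
    obtain ⟨g, hgL, hg⟩ := fusion hB hEc hbig hEodd hU hf hL8 hx hy
    refine ⟨⟨π g, Subgroup.mem_map_of_mem π hgL⟩, Subgroup.map_injective D.subtype_injective ?_⟩
    rw [hB1, ← hyB, ← MonoidHom.map_zpowers, hg, Subgroup.map_map, Subgroup.map_map]
    have e1 : A.map D.subtype = (Subgroup.zpowers x).map π :=
      hA1.trans (hxA.symm.trans (MonoidHom.map_zpowers π x).symm)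
    rw [← Subgroup.map_map]
    conv_rhs => rw [show D.subtype.comp (MulAut.conj (⟨π g, Subgroup.mem_map_of_mem π hgL⟩ : D)).toMonoidHom
      = (MulAut.conj (π g)).toMonoidHom.comp D.subtype from by ext z; simp,
      ← Subgroup.map_map, e1]
    simp only [Subgroup.map_map]
    congr 1
  · -- order at most two
    refine hfin (Subgroup.map_injective D.subtype_injective ?_)
    have hsmall : ∀ {X : Subgroup D} (a : ↥(X.map D.subtype)), X ≤ M → Nat.card X ≠ 4 →
        (a : G ⧸ E) ∈ Q → orderOf (a : G ⧸ E) = Nat.card X →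
        (a : G ⧸ E) = 1 ∨ (a : G ⧸ E) = π (f (QuaternionGroup.a 2)) := by
      intro X a hX hX4 haQ ho
      obtain ⟨q, hq⟩ := haQ
      have hq4 : orderOf q ≠ 4 := by
        rw [← orderOf_injective _ hfb, hq, ho]; exact hX4
      have key : ∀ q : QuaternionGroup 2, q = 1 ∨ q = QuaternionGroup.a 2 ∨ (q ^ 4 = 1 ∧ q ^ 2 ≠ 1) := by
        decide
      rcases key q with h | h | ⟨h1, h2⟩
      · left; rw [← hq, h, map_one]
      · right; rw [← hq, h]; rfl
      · exact absurd (orderOf_eq_prime_pow (p := 2) (n := 1) (by simpa using h2) (by simpa using h1)) hq4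
    rw [hA1, hB1]
    have hz1 : π (f (QuaternionGroup.a 2)) ≠ 1 := fun h =>
      (by decide : (QuaternionGroup.a 2 : QuaternionGroup 2) ≠ 1) (hfb (h.trans (map_one _).symm))
    rcases hsmall a hA h4 (hpg A hA a.2) hA2 with h | h <;>
      rcases hsmall b hB' (hcard ▸ h4) hbQ hB2 with h' | h'
    · rw [h, h']
    · exfalso
      rw [h, orderOf_one] at hA2
      rw [h', ← hcard, ← hA2, orderOf_eq_one_iff] at hB2
      exact hz1 hB2
    · exfalso
      rw [h', orderOf_one] at hB2
      rw [h, hcard, ← hB2, orderOf_eq_one_iff] at hA2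
      exact hz1 hA2
    · rw [h, h']

end CfsgLib.AbConjAll
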